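import Mathlib
import Cfsg.Agent.H37.BG134Util
import Cfsg.Agent.H51.BG10E
import Cfsg.Agent.H58.BG10FG

set_option autoImplicit false
set_option linter.style.haveILetI false

/-!
# Bender–Glauberman Theorem 13.4 (S1428), team project BG134: piece CASEA (helper37)

No configuration has `p ∉ σ(H)`.
-/

namespace Cfsg.Agent.H37.BG134

open Cfsg Subgroup Cfsg.Agent.H58.BG10 Cfsg.Agent.H57.BG12 Cfsg.Agent.H47.BG12
  Cfsg.Agent.H63.Sig Cfsg.Agent.Lib.Helper30.BG134 Cfsg.Agent.Lib.Helper30.BG12T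
  Cfsg.Agent.H76.BG12
open scoped Pointwise commutatorElement

universe u

variable {G : Type u} [Group G]

/-- If `A` normalizes `D` then `|A D|` divides `|A| |D|`. -/
theorem card_sup_dvd [Finite G] {A D : Subgroup G} (hAD : A ≤ normalizer (D : Set G)) :
    Nat.card ↥(A ⊔ D) ∣ Nat.card A * Nat.card D := by
  have h1 := Cfsg.Agent.H1.relIndex_sup_of_le_normalizer A D hAD
  have h2 : Nat.card D * D.relIndex (A ⊔ D) = Nat.card ↥(A ⊔ D) := by
    have := Subgroup.relIndex_mul_relIndex ⊥ D (A ⊔ D) bot_le le_sup_right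
    rwa [Subgroup.relIndex_bot_left, Subgroup.relIndex_bot_left] at this
  rw [← h2, h1, mul_comm]
  exact Nat.mul_dvd_mul_right (Subgroup.relIndex_dvd_card D A) _

/-- An elementary abelian subgroup of order `p ^ 2` inside `K` shows that `K` has `p`-rank
at least `2`. -/
theorem not_pRankLE_one_of_sq_le {p : ℕ} (hp : p.Prime) {A K : Subgroup G} (hAK : A ≤ K)
    (hAel : IsElementaryAbelian p A) (hAcard : Nat.card A = p ^ 2) : ¬ PRankLE p 1 K := by
  intro h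
  haveI := hAel.1
  have h1 := h (A.subgroupOf K) inferInstance (by
    rintro ⟨a, haK⟩ ha
    exact Subtype.ext (hAel.2 a ha))
  rw [Nat.card_congr (Subgroup.subgroupOfEquivOfLe hAK).toEquiv, hAcard, pow_one] at h1
  have := hp.one_lt
  nlinarith

/-- A subgroup not conjugate to `M` is different from `M`. -/
theorem ne_of_not_conj {M H : Subgroup G}
    (hnc : ∀ g : G, H ≠ M.map (MulAut.conj g).toMonoidHom) : H ≠ M := by
  intro h
  apply hnc 1
  rw [map_conj_eq_smul, cj_one]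
  exact h

/-- A subgroup of `p`-rank `1` contains no conjugate of an elementary abelian subgroup of order
`p ^ 2`. -/
theorem rank_contra [Finite G] {p : ℕ} (hp : p.Prime) {A M : Subgroup G}
    (hAel : IsElementaryAbelian p A) (hAc : Nat.card A = p ^ 2) (hr : PRankLE p 1 M) (g : G)
    (h : A.map (MulAut.conj g).toMonoidHom ≤ M) : False :=
  not_pRankLE_one_of_sq_le hp h (Cfsg.Agent.H58.BG12.elementary_map_conj hAel g)
    (by rw [map_conj_eq_smul, card_cj, hAc]) hr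

/-- (CASEA). -/
theorem caseA [Finite G] (hG : IsMinSimpleOddOrder G) (h03 : St1403 G) (h50 : St1350 G)
    (h09 : St1409 G) (h17 : St1417 G) (h18 : St1418 G) (h23 : St1423 G)
    (h24 : St1424 G) (hAS : StAlphaSigma G) (hSD : StSigDisj G) (hSj : StSigConj G)
    (hE1 : StEmbE1 G) (hD1 : StEmbD1 G) (hHA : StHallAlpha G) (hDet : StDet G) (hAB : StAB G)
    (hRT : StRTau1 G) : StCaseA G := by
  intro M E H P R Q1 p r q c hpH
  obtain ⟨hpp, hpσ, hpM, hpM', hpr⟩ := c.hp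
  haveI : Fact p.Prime := ⟨hpp⟩
  haveI : Fact q.Prime := ⟨c.hq⟩
  have hM := c.hM
  have hH := c.hH
  have hPc := c.hP
  have hPp : IsPGroup p P := isPGroup_of_card hPc
  -- `p ∈ τ₂(H)`, `H_σ` nilpotent
  obtain ⟨⟨hr2, hr1⟩, -, -⟩ := h09 H hH p hpH P hPc c.hNP
  have hτ2 : p ∈ tau2 H := ⟨hpp, hpH, hr2, hr1⟩
  obtain ⟨A0, hA0H, hA0el, hA0c⟩ := Cfsg.Agent.H58.BG12.exists_elementary_sq hpp hr2 hr1
  have hnil : Group.IsNilpotent (sigmaCore H) := (h17 H hH p hτ2 A0 ⟨hA0H, hA0el, hA0c⟩).1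
  have hqH : q ∉ sigma H := by
    intro hqH
    obtain ⟨g, hg⟩ := hSD M H hM hH hnil q c.hqM hqH
    exact c.hnc g (by rw [map_conj_eq_smul]; exact hg)
  have hrH : r ∉ sigma H := (hRT M E H P R Q1 p r q c).2.1
  have hqp : q ≠ p := fun h => hpσ (h ▸ c.hqM)
  have hqr : q ≠ r := fun h => c.hrM (h ▸ c.hqM)
  -- `Q1 R P` is a `σ(H)'`-group
  have hRQ : Nat.card ↥(R ⊔ Q1) ∣ Nat.card R * Nat.card Q1 := card_sup_dvd c.hRQ1
  have hRQP : R ⊔ Q1 ≤ normalizer (P : Set G) :=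
    (sup_le c.hRP c.hQ1P).trans (centralizer_le_normalizer _)
  have hZd : Nat.card ↥((R ⊔ Q1) ⊔ P) ∣ Nat.card ↥(R ⊔ Q1) * Nat.card P := card_sup_dvd hRQP
  have hZσ : ∀ s : ℕ, s.Prime → s ∣ Nat.card ↥((R ⊔ Q1) ⊔ P) → s ∉ sigma H := by
    intro s hs hsd
    obtain ⟨n, hn⟩ := IsPGroup.iff_card.mp c.hQ1q
    have h1 := hsd.trans (hZd.trans (Nat.mul_dvd_mul_right hRQ _))
    rw [c.hR, hPc, hn] at h1
    rcases (hs.dvd_mul).mp h1 with h | h
    · rcases (hs.dvd_mul).mp h with h | h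
      · rw [(Nat.prime_dvd_prime_iff_eq hs c.hr).mp h]; exact hrH
      · rw [(Nat.prime_dvd_prime_iff_eq hs c.hq).mp (hs.dvd_of_dvd_pow h)]; exact hqH
    · rw [(Nat.prime_dvd_prime_iff_eq hs hpp).mp h]; exact hpH
  obtain ⟨EH, hEH, hZE⟩ :=
    exists_compl_ge h50 hSj hH (sup_le (sup_le c.hRH c.hQ1H) c.hPH) hZσ
  obtain ⟨A, hAE, hAel, hAc, hEN, hXA⟩ := exists_tau2_sq h18 hSj hH hEH hτ2
  have hPA : P ≤ A := hXA P (le_sup_right.trans hZE) hPc
  have hRN : R ≤ normalizer (A : Set G) := ((le_sup_left.trans le_sup_left).trans hZE).trans hEN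
  have hQN : Q1 ≤ normalizer (A : Set G) :=
    ((le_sup_right.trans le_sup_left).trans hZE).trans hEN
  have hQA : Q1 ≤ centralizer (A : Set G) :=
    hDet A P Q1 R p q hpp c.hq hqp hAel hAc hPA hPc c.hQ1q
      (by rw [c.hR]; intro h; exact hqr ((Nat.prime_dvd_prime_iff_eq c.hq c.hr).mp h))
      hQN hRN c.hQ1P c.hRP c.hRQ1 c.hfree
  have hAQ : A ≤ centralizer (Q1 : Set G) := Subgroup.le_centralizer_iff.mp hQA
  have hAH : A ≤ H := hAE.trans hEH.1
  have hAσ : ∀ L : Subgroup G, p ∉ sigma L → ∀ s : ℕ, s.Prime → s ∣ Nat.card A →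
      s ∉ sigma L := by
    intro L hpL s hs hsd
    rw [hAc] at hsd
    rw [(Nat.prime_dvd_prime_iff_eq hs hpp).mp (hs.dvd_of_dvd_pow hsd)]
    exact hpL
  have hQ1M : Q1 ≤ M := c.hQ1M.trans (sigmaCore_le_self M)
  have hHM : H ≠ M := ne_of_not_conj c.hnc
  -- `N_G(Q1) ⊄ H`
  have hNH : ¬ normalizer (Q1 : Set G) ≤ H := by
    intro hNH
    obtain ⟨S, hS⟩ := exists_sylow_map_ge c.hQ1q (le_inf hQ1M c.hQ1H)
    obtain ⟨-, hNS, hSidx⟩ := h24 M hM q c.hqM Q1 c.hQ1q c.hQ1 hQ1M H hH hHM hNH S hS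
    have hSle : (S : Subgroup ↥(M ⊓ H)).map (M ⊓ H).subtype ≤ M ⊓ H :=
      Subgroup.map_subtype_le _
    obtain ⟨-, -, hcompl⟩ := hE1 M H hM hH hHM q c.hqM hqH Q1 c.hQ1 hNH _ (S.2.map _) hS
      (hSle.trans inf_le_left) (hSle.trans inf_le_right) hSidx
    obtain ⟨g, hgH, hg⟩ := hSj H hH (M ⊓ H) hcompl A hAH (hAσ H hpH)
    exact rank_contra hpp hAel hAc hpr g (hg.trans inf_le_left)
  have hQ1top : Q1 ≠ ⊤ := fun h => hM.1 (top_le_iff.mp (h ▸ hQ1M))
  obtain ⟨L, hL, hNL⟩ :=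
    exists_coatom_ge (Cfsg.Agent.H51.BG10.normalizer_ne_top_of_ne hG c.hQ1 hQ1top)
  have hLH : L ≠ H := fun h => hNH (h ▸ hNL)
  have hAL : A ≤ L := (hAQ.trans (centralizer_le_normalizer _)).trans hNL
  have hLM : L ≠ M := by
    intro h
    exact not_pRankLE_one_of_sq_le hpp (h ▸ hAL) hAel hAc hpr
  obtain ⟨S1, hS1⟩ := exists_sylow_map_ge c.hQ1q (le_inf hQ1M (le_normalizer.trans hNL))
  obtain ⟨hncL, hNS1, hS1idx⟩ := h24 M hM q c.hqM Q1 c.hQ1q c.hQ1 hQ1M L hL hLM hNL S1 hS1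
  have hS1le : (S1 : Subgroup ↥(M ⊓ L)).map (M ⊓ L).subtype ≤ M ⊓ L :=
    Subgroup.map_subtype_le _
  have hS1q : IsPGroup q ↥((S1 : Subgroup ↥(M ⊓ L)).map (M ⊓ L).subtype) := S1.2.map _
  have hPL : P ≤ L := hPA.trans hAL
  by_cases hqL : q ∈ sigma L
  · -- `q ∈ σ(L)`
    have hfac := hD1 M L hL q hqL _ hS1q (hS1le.trans inf_le_right) hS1idx hNS1
    have hpα : p ∈ alpha L := by
      by_contra hpα
      obtain ⟨g, hgL, hg⟩ := hHA L hL (M ⊓ L) inf_le_right hfac A hAL (by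
        intro s hs hsd
        rw [hAc] at hsd
        rw [(Nat.prime_dvd_prime_iff_eq hs hpp).mp (hs.dvd_of_dvd_pow hsd)]
        exact hpα)
      exact rank_contra hpp hAel hAc hpr g (by rw [map_conj_eq_smul]; exact hg.trans inf_le_left)
    have hqα : q ∉ alpha L := fun h => hAS M L hM hL hncL q h c.hqM
    have hpβ : p ∈ beta L :=
      hAB L M _ q hL hM hLM hqL hqα hS1q (hS1le.trans inf_le_right) hNS1 p hpα
    have hpσL : p ∈ sigma L := Cfsg.Agent.H58.BG10.alpha_subset_sigma hG h03 hL hpα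
    obtain ⟨PS⟩ : Nonempty (Sylow p ↥(sigmaCore L)) := inferInstance
    obtain ⟨⟨-, huniq⟩, -, -⟩ := h23 L hL p hpσL P hPL hPc PS (Or.inl hpβ)
    exact hLH (huniq H hH ((centralizer_le_normalizer _).trans c.hNP)).symm
  · -- `q ∉ σ(L)`
    obtain ⟨-, hbot, hcompl⟩ := hE1 M L hM hL hLM q c.hqM hqL Q1 c.hQ1 hNL _ hS1q hS1
      (hS1le.trans inf_le_left) (hS1le.trans inf_le_right) hS1idx
    have hpL : p ∈ sigma L := by
      by_contra hpL
      obtain ⟨g, hgL, hg⟩ := hSj L hL (M ⊓ L) hcompl A hAL (hAσ L hpL)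
      exact rank_contra hpp hAel hAc hpr g (hg.trans inf_le_left)
    have hPσL : P ≤ sigmaCore L := Cfsg.Agent.H92.BG12.le_sigmaCore_of_mem h50 hL hpL hPp hPL
    have hPbot : P = ⊥ := le_bot_iff.mp (hbot ▸ le_inf hPσL (c.hPE.trans c.hE.1))
    rw [← Subgroup.card_eq_one, hPc] at hPbot
    exact hpp.one_lt.ne' hPbot

/-- The statement, verbatim. -/
example [Finite G] (hG : IsMinSimpleOddOrder G) (h03 : St1403 G) (h50 : St1350 G)
    (h09 : St1409 G) (h17 : St1417 G) (h18 : St1418 G) (h23 : St1423 G)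
    (h24 : St1424 G) (hAS : StAlphaSigma G) (hSD : StSigDisj G) (hSj : StSigConj G)
    (hE1 : StEmbE1 G) (hD1 : StEmbD1 G) (hHA : StHallAlpha G) (hDet : StDet G) (hAB : StAB G)
    (hRT : StRTau1 G) :
    ∀ (M E H P R Q1 : Subgroup G) (p r q : ℕ), Cfg M E H P R Q1 p r q → p ∉ sigma H → False :=
  caseA hG h03 h50 h09 h17 h18 h23 h24 hAS hSD hSj hE1 hD1 hHA hDet hAB hRT

end Cfsg.Agent.H37.BG134
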