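import Mathlib
import Cfsg.Agent.H37.BG134Util

set_option autoImplicit false
set_option linter.style.haveILetI false

/-!
# Bender–Glauberman Theorem 13.4 (S1428), team project BG134: piece LA (helper37)

`p ∈ τ₁(M)`, `P ≤ M` of order `p`, `H` maximal over `N_G(P)`: `H` is not conjugate to `M` and
`M_σ ∩ H ≤ C(P)`.
-/

namespace Cfsg.Agent.H37.BG134

open Cfsg Subgroup Cfsg.Agent.H58.BG10 Cfsg.Agent.H57.BG12 Cfsg.Agent.H47.BG12
  Cfsg.Agent.H63.Sig Cfsg.Agent.Lib.Helper30.BG134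
open scoped Pointwise commutatorElement

universe u

variable {G : Type u} [Group G]

/-- (LA). -/
theorem la [Finite G] (h50 : St1350 G) (h05 : St1405 G) (h09 : St1409 G) (h17 : St1417 G)
    (h18 : St1418 G) (hT : StSigComm G) (hAS : StAlphaSigma G) (hSD : StSigDisj G)
    (hSj : StSigConj G) : StLA G := by
  intro M H P p hM hH hp hPM hPc hNP
  obtain ⟨hpp, hpσ, hpM, hpM', hpr⟩ := hp
  haveI : Fact p.Prime := ⟨hpp⟩
  have hPH : P ≤ H := le_normalizer.trans hNP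
  have hPp : IsPGroup p P := isPGroup_of_card hPc
  -- (a) `H` is not conjugate to `M`
  have hnc : ∀ g : G, H ≠ M.map (MulAut.conj g).toMonoidHom := by
    intro g hg
    rw [map_conj_eq_smul] at hg
    have h1 : normalizer ((MulAut.conj g⁻¹ • P : Subgroup G) : Set G) ≤ M := by
      rw [Cfsg.Agent.H92.BG12.normalizer_cj]
      have := cj_mono g⁻¹ hNP
      rwa [hg, cj_inv_cj] at this
    have h2 := h09 M hM p hpσ (MulAut.conj g⁻¹ • P) (by rw [card_cj, hPc]) h1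
    exact h2.1.2 hpr
  refine ⟨hnc, ?_⟩
  -- (b)
  have hPY : P ≤ normalizer ((sigmaCore M ⊓ H : Subgroup G) : Set G) := by
    intro x hx
    rw [Subgroup.mem_normalizer_iff]
    intro y
    have h1 := Subgroup.mem_normalizer_iff.mp (le_normalizer_sigmaCore M (hPM hx)) y
    have h2 := Subgroup.mem_normalizer_iff.mp (Subgroup.le_normalizer (hPH hx)) y
    rw [Subgroup.mem_inf, Subgroup.mem_inf, h1, h2]
  have hYσ : ∀ s : ℕ, s.Prime → s ∣ Nat.card ↥(sigmaCore M ⊓ H) → s ∈ sigma M :=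
    fun s hs hsd => mem_sigma_of_dvd h50 hM inf_le_left hs hsd
  have hcop : (Nat.card P).Coprime (Nat.card ↥(sigmaCore M ⊓ H)) := by
    rw [hPc]
    exact (Nat.Prime.coprime_iff_not_dvd hpp).mpr (fun h => hpσ (hYσ p hpp h))
  have hW0Y : ⁅sigmaCore M ⊓ H, P⁆ ≤ sigmaCore M ⊓ H :=
    Cfsg.Agent.H1.commutator_le_of_le_normalizer P _ hPY
  rw [← Subgroup.commutator_eq_bot_iff_le_centralizer]
  by_cases hpH : p ∈ sigma H
  · -- `p ∈ σ(H)`
    have hPσ : P ≤ sigmaCore H := Cfsg.Agent.H92.BG12.le_sigmaCore_of_mem h50 hH hpH hPp hPH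
    have hW0σH : ⁅sigmaCore M ⊓ H, P⁆ ≤ sigmaCore H :=
      commutator_le_of_normalizes (inf_le_right.trans (le_normalizer_sigmaCore H)) hPσ
    have hσc : sigmaCore H ≤ ⁅H, H⁆ := Cfsg.Agent.H76.BG10.sigmaCore_le_commutator hT H hH
    have hcop2 : (Nat.card ↥⁅sigmaCore M ⊓ H, P⁆).Coprime (Nat.card P) :=
      hcop.symm.coprime_dvd_left (Subgroup.card_dvd_of_le hW0Y)
    have hW0α : ⁅⁅sigmaCore M ⊓ H, P⁆, P⁆ ≤ alphaCore H :=
      nil_comm h05 hH (hW0σH.trans hσc) (hPσ.trans hσc) hcop2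
    haveI : Group.IsNilpotent P := hPp.isNilpotent
    have hW0eq : ⁅⁅sigmaCore M ⊓ H, P⁆, P⁆ = ⁅sigmaCore M ⊓ H, P⁆ :=
      Cfsg.Agent.H1.coprime_commutator_commutator P _ hPY hcop (Or.inl inferInstance)
    rw [hW0eq] at hW0α
    by_contra hne
    obtain ⟨s, hs, hsd⟩ := exists_prime_dvd_card hne
    exact hAS M H hM hH hnc s (mem_alpha_of_dvd h05 hH hW0α hs hsd)
      (mem_sigma_of_dvd h50 hM (hW0Y.trans inf_le_left) hs hsd)
  · -- `p ∉ σ(H)`
    obtain ⟨⟨hr2, hr1⟩, -, -⟩ := h09 H hH p hpH P hPc hNP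
    have hτ2 : p ∈ tau2 H := ⟨hpp, hpH, hr2, hr1⟩
    obtain ⟨A0, hA0H, hA0el, hA0c⟩ := Cfsg.Agent.H58.BG12.exists_elementary_sq hpp hr2 hr1
    have hnil : Group.IsNilpotent (sigmaCore H) := (h17 H hH p hτ2 A0 ⟨hA0H, hA0el, hA0c⟩).1
    have hdisj : ∀ s : ℕ, s ∈ sigma M → s ∉ sigma H := by
      intro s hsM hsH
      obtain ⟨g, hg⟩ := hSD M H hM hH hnil s hsM hsH
      exact hnc g (by rw [map_conj_eq_smul]; exact hg)
    have hPYbot : P ⊓ (sigmaCore M ⊓ H) = ⊥ := (Subgroup.disjoint_of_coprime_natCard hcop).eq_bot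
    have hZc : Nat.card ↥(P ⊔ (sigmaCore M ⊓ H)) = Nat.card P * Nat.card ↥(sigmaCore M ⊓ H) :=
      Cfsg.Agent.H1.card_sup_of_le_normalizer P _ hPY hPYbot
    have hZσ : ∀ s : ℕ, s.Prime → s ∣ Nat.card ↥(P ⊔ (sigmaCore M ⊓ H)) → s ∉ sigma H := by
      intro s hs hsd
      rw [hZc, hPc] at hsd
      rcases (hs.dvd_mul).mp hsd with h | h
      · rw [(Nat.prime_dvd_prime_iff_eq hs hpp).mp h]; exact hpH
      · exact hdisj s (hYσ s hs h)
    obtain ⟨E, hE, hZE⟩ := exists_compl_ge h50 hSj hH (sup_le hPH inf_le_right) hZσ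
    obtain ⟨A, hAE, hAel, hAc, hEN, hXA⟩ := exists_tau2_sq h18 hSj hH hE hτ2
    have hPA : P ≤ A := hXA P (le_sup_left.trans hZE) hPc
    have hW0A : ⁅sigmaCore M ⊓ H, P⁆ ≤ A :=
      commutator_le_of_normalizes ((le_sup_right.trans hZE).trans hEN) hPA
    refine eq_bot_of_dvd_of_coprime (Subgroup.card_dvd_of_le hW0A) (Subgroup.card_dvd_of_le hW0Y) ?_
    rw [hAc]
    rw [hPc] at hcop
    exact Nat.Coprime.pow_left 2 hcop

/-- The statement, verbatim. -/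
example [Finite G] (h50 : St1350 G) (h05 : St1405 G) (h09 : St1409 G) (h17 : St1417 G)
    (h18 : St1418 G) (hT : StSigComm G) (hAS : StAlphaSigma G) (hSD : StSigDisj G)
    (hSj : StSigConj G) :
    ∀ (M H P : Subgroup G) (p : ℕ), IsCoatom M → IsCoatom H → p ∈ tau1 M → P ≤ M →
    Nat.card P = p → normalizer (P : Set G) ≤ H →
    (∀ g : G, H ≠ M.map (MulAut.conj g).toMonoidHom) ∧
      sigmaCore M ⊓ H ≤ centralizer (P : Set G) :=
  la h50 h05 h09 h17 h18 hT hAS hSD hSj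

end Cfsg.Agent.H37.BG134
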