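import Mathlib
import Cfsg.Agent.H1.BTDefs
import Cfsg.Agent.H81.Reg

set_option autoImplicit false

/-!
# S0997, type B (team project of helper1): the piece ARITH (helper37)

The 2-adic argument: `4 ∣ e` forces `p = 2 e + 1`.
-/

namespace Cfsg.Agent.H37.BT

open Cfsg Cfsg.Agent.H21.BR Cfsg.Agent.H1.BT

universe u

/-- The arithmetic core: a degree `d ≡ 2 (mod 4)`, `d ≡ ±1 (mod p)`, `d ≥ 2`, dividing
`2 ^ b * p * (p - e)` forces `p = 2 e + 1`. -/
theorem arith_core (p e b d : ℕ) (hp : p.Prime) (he2 : 2 ≤ e) (h2e : 2 * e ≤ p - 1)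
    (hd4 : d % 4 = 2) (hdvd : d ∣ 2 ^ b * p * (p - e)) (hd2 : 2 ≤ d)
    (hmod : (d : ℤ) ≡ 1 [ZMOD p] ∨ (d : ℤ) ≡ -1 [ZMOD p]) : 2 * e + 1 = p := by
  have hp2 := hp.two_le
  obtain ⟨c, hc⟩ : ∃ c, d = 2 * c := ⟨d / 2, by omega⟩
  have hcodd : c % 2 = 1 := by omega
  have hdm : (p : ℤ) ∣ (d : ℤ) - 1 ∨ (p : ℤ) ∣ (d : ℤ) + 1 := by
    rcases hmod with h1 | h1
    · exact Or.inl (Int.modEq_iff_dvd.mp h1.symm)
    · right
      have := Int.modEq_iff_dvd.mp h1.symm
      simpa using this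
  -- `p ∤ d`
  have hpd : ¬ p ∣ d := by
    intro h
    have h' : (p : ℤ) ∣ (d : ℤ) := by exact_mod_cast h
    have h3 : (p : ℤ) ∣ 1 := by
      rcases hdm with h1 | h1
      · have := dvd_sub h' h1
        simpa using this
      · have := dvd_sub h1 h'
        simpa using this
    have := Int.le_of_dvd one_pos h3
    omega
  have hcp : Nat.Coprime c p := by
    rw [Nat.coprime_comm]
    exact (Nat.Prime.coprime_iff_not_dvd hp).mpr (fun h => hpd (hc ▸ Dvd.dvd.mul_left h 2))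
  have hc2 : Nat.Coprime c (2 ^ b) :=
    Nat.Coprime.pow_right b (Nat.coprime_two_right.mpr (Nat.odd_iff.mpr hcodd))
  have hcq : c ∣ p - e := by
    have h1 : c ∣ 2 ^ b * p * (p - e) := (Dvd.intro_left 2 hc.symm).trans hdvd
    rw [mul_assoc] at h1
    exact hcp.dvd_of_dvd_mul_left (hc2.dvd_of_dvd_mul_left h1)
  obtain ⟨k, hk⟩ := hcq
  -- `p ≤ d + 1`
  have hge : p ≤ d + 1 := by
    rcases hdm with h1 | h1
    · have := Int.le_of_dvd (by omega) h1
      omega
    · have := Int.le_of_dvd (by omega) h1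
      omega
  -- `c = p - e`
  have hck : c = p - e := by
    rcases k with _ | _ | k
    · rw [mul_zero] at hk; omega
    · rw [hk]; simp
    · have : c * 2 ≤ c * (k + 1 + 1) := Nat.mul_le_mul_left c (by omega)
      omega
  rcases hdm with h1 | h1
  · obtain ⟨j, hj⟩ := h1
    have hj0 : 0 < j := by
      by_contra h
      have : (p : ℤ) * j ≤ 0 := mul_nonpos_of_nonneg_of_nonpos (by positivity) (by omega)
      omega
    have hj2 : j < 2 := by
      by_contra h
      have : (p : ℤ) * 2 ≤ (p : ℤ) * j := mul_le_mul_of_nonneg_left (by omega) (by positivity)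
      omega
    have hj1 : j = 1 := by omega
    rw [hj1, mul_one] at hj
    omega
  · obtain ⟨j, hj⟩ := h1
    have hj1 : 1 < j := by
      by_contra h
      have : (p : ℤ) * j ≤ (p : ℤ) * 1 := mul_le_mul_of_nonneg_left (by omega) (by positivity)
      omega
    have hj2 : j < 2 := by
      by_contra h
      have : (p : ℤ) * 2 ≤ (p : ℤ) * j := mul_le_mul_of_nonneg_left (by omega) (by positivity)
      omega
    omega

/-- If a signed sum of even numbers is `≡ 2 (mod 4)`, one of them is `≡ 2 (mod 4)`. -/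
theorem exists_mod4 {ι : Type*} (S : Finset ι) (δ : ι → ℤ) (D : ι → ℕ)
    (hD : ∀ i ∈ S, Even (D i)) (hsum : (∑ i ∈ S, δ i * (D i : ℤ)) % 4 = 2) :
    ∃ i ∈ S, D i % 4 = 2 := by
  by_contra hne
  have h4 : ∀ i ∈ S, (4 : ℤ) ∣ δ i * (D i : ℤ) := by
    intro i hi
    have h1 : D i % 4 ≠ 2 := fun h => hne ⟨i, hi, h⟩
    have h3 : 4 ∣ D i := by
      rcases hD i hi with ⟨k, hk⟩
      omega
    exact Dvd.dvd.mul_left (by exact_mod_cast h3) _
  have := Finset.dvd_sum h4
  omega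

/-- (ARITH). -/
theorem arith : StArith.{u} := by
  intro G _ _ p e b P X Y δ τ x c he4
  classical
  have hB := c.hB0
  have hp := c.hp
  have hp2 := hp.two_le
  have hcY := hB.cardY
  -- `Y` is nonempty
  have hYne : Y.Nonempty := by
    rw [Finset.nonempty_iff_ne_empty]
    intro h
    rw [h, Finset.card_empty, zero_mul] at hcY
    omega
  obtain ⟨θ, hθ⟩ := hYne
  have h1reg : ¬ p ∣ orderOf (1 : G) := by
    rw [orderOf_one]; exact hp.not_dvd_one
  have hrel := hB.rel θ hθ 1 h1reg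
  have hχ1 : ∀ χ : IrrCharacter G, (χ : G → ℂ) 1 = (charDegree (χ : G → ℂ) : ℂ) :=
    fun χ => (Cfsg.Agent.H81.irr_charDegree χ).1
  have hdegθ := c.degY θ hθ
  have hdvdG := c.hcard
  have h2e := c.h2e
  obtain ⟨q, hq⟩ : ∃ q, q = p - e := ⟨_, rfl⟩
  rw [← hq] at hdegθ
  simp only [hχ1] at hrel
  rw [hdegθ] at hrel
  have hZ : ∑ χ ∈ X, δ χ * (charDegree (χ : G → ℂ) : ℤ) = -1 * (q : ℤ) := by
    exact_mod_cast hrel.symm
  have hone : charDegree ((one G : IrrCharacter G) : G → ℂ) = 1 := by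
    have h := hχ1 (one G)
    rw [Cfsg.Agent.H21.E2Block.triv_apply] at h
    exact_mod_cast h.symm
  have hsplit := Finset.add_sum_erase X (fun χ => δ χ * (charDegree (χ : G → ℂ) : ℤ)) hB.one_mem
  rw [hZ, hB.δ_one, hone] at hsplit
  have h4p : 4 ∣ p - 1 := by
    rw [← hcY]; exact Dvd.dvd.mul_left he4 _
  have hsum : (∑ χ ∈ X.erase (one G), δ χ * (charDegree (χ : G → ℂ) : ℤ)) % 4 = 2 := by
    omega
  obtain ⟨χ, hχS, hχ4⟩ := exists_mod4 (X.erase (one G)) δ (fun χ => charDegree (χ : G → ℂ))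
    (fun χ hχ => c.evenX χ (Finset.mem_of_mem_erase hχ) (Finset.ne_of_mem_erase hχ)) hsum
  have hχX := Finset.mem_of_mem_erase hχS
  have hχne := Finset.ne_of_mem_erase hχS
  refine arith_core p e b (charDegree (χ : G → ℂ)) hp c.he2 h2e hχ4 ?_ (hB.two_le_X χ hχX hχne) ?_
  · rw [← hdvdG]; exact Cfsg.Agent.H81.irr_charDegree_dvd χ
  · have hm := hB.deg_X χ hχX
    rcases hB.δ_pm χ hχX with h | h
    · left; rw [h] at hm; exact hm
    · right; rw [h] at hm; exact hm

/-- The statement, verbatim. -/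
example : ∀ {G : Type u} [Group G] [Finite G] (p e b : ℕ) (P : Sylow p G)
    (X Y : Finset (IrrCharacter G)) (δ : IrrCharacter G → ℤ) (τ x : G)
    (_ : Ctx p e b P X Y δ τ x) (_ : 4 ∣ e), 2 * e + 1 = p := arith.{u}

end Cfsg.Agent.H37.BT
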