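import Mathlib
import Cfsg.Agent.H1.BTDefs
import Cfsg.Agent.H4.Twin
import Cfsg.Agent.H4.Blich1
import Cfsg.Agent.H4.Irr

set_option autoImplicit false
set_option linter.style.haveILetI false

/-!
# S0997, type B (team project of helper1): the piece KER (helper37)

A non-linear irreducible character of a simple group is faithful.
-/

namespace Cfsg.Agent.H37.BT

open Cfsg Cfsg.Agent.H21.BR Cfsg.Agent.H1.BT
open scoped ComplexConjugate

universe u

/-- (KER). -/
theorem ker : StKer.{u} := by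
  intro G _ _ _ _ ψ hdeg u hu
  classical
  have hχ : IsCharacter G (ψ : G → ℂ) := Cfsg.Agent.H4.isCharacter_of_isIrrCharacter ψ.2
  have hcf := Cfsg.Agent.H4.isClassFunction_of_isCharacter hχ
  have hN : (Cfsg.Agent.H4.charKerSub hχ).Normal := by
    constructor
    intro n hn g
    rw [Cfsg.Agent.H4.mem_charKerSub] at hn ⊢
    rw [hcf n g]; exact hn
  rcases hN.eq_bot_or_eq_top with h | h
  · have hmem : u ∈ Cfsg.Agent.H4.charKerSub hχ := (Cfsg.Agent.H4.mem_charKerSub hχ u).mpr hu
    rw [h] at hmem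
    exact Subgroup.mem_bot.mp hmem
  · exfalso
    have hconst : ∀ g : G, (ψ : G → ℂ) g = (ψ : G → ℂ) 1 := fun g =>
      (Cfsg.Agent.H4.mem_charKerSub hχ g).mp (h ▸ Subgroup.mem_top g)
    have h1 := Cfsg.Agent.H4.isCharacter_one_eq hχ
    haveI : Fintype G := Fintype.ofFinite G
    have hinner := Cfsg.Agent.H4.irr_inner_self ψ
    have hG : (Nat.card G : ℂ) ≠ 0 := by exact_mod_cast Nat.card_pos.ne'
    have hsum : ∑ g : G, (ψ : G → ℂ) g * conj ((ψ : G → ℂ) g) =
        (Nat.card G : ℂ) * ((charDegree (ψ : G → ℂ) : ℂ) * (charDegree (ψ : G → ℂ) : ℂ)) := by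
      simp only [hconst, h1, Complex.conj_natCast, Finset.sum_const, Finset.card_univ,
        nsmul_eq_mul, Nat.card_eq_fintype_card]
    unfold classInner at hinner
    rw [hsum, ← mul_assoc, inv_mul_cancel₀ hG, one_mul] at hinner
    have h2 : charDegree (ψ : G → ℂ) * charDegree (ψ : G → ℂ) = 1 := by exact_mod_cast hinner
    nlinarith

/-- The statement, verbatim. -/
example : ∀ {G : Type u} [Group G] [Finite G] [IsSimpleGroup G] (_ : ¬ IsCyclic G)
    (ψ : IrrCharacter G) (_ : 2 ≤ charDegree (ψ : G → ℂ)) (u : G)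
    (_ : (ψ : G → ℂ) u = (ψ : G → ℂ) 1), u = 1 := ker.{u}

end Cfsg.Agent.H37.BT
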