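import Mathlib
import Cfsg.Agent.H10.HO.Defs2

/-!
# HO-HG (piece of S2075, helper10's project)

An automorphism fixing `x, z, t` also fixes `n`, when `n` normalizes `⟨z⟩`, conjugates enough words in
`x, z, t` to words in `x, z, t`, and no nontrivial element of `C(z) = {z^a, z^a t}` commutes with all
these words.
-/

set_option autoImplicit false

namespace Cfsg.Agent.H37.Ho

open Cfsg.Agent.H10.HO

universe u

/-- An automorphism fixing `x, z, t` fixes every word in them. -/
theorem evS_fixed {G : Type u} [Group G] (x z t : G) (β : MulAut G) (hx : β x = x) (hz : β z = z)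
    (ht : β t = t) (w : List ℕ) : β (evS x z t w) = evS x z t w := by
  induction w with
  | nil => simp [evS]
  | cons c w ih =>
    match c with
    | 0 => simp [evS, hx, ih]
    | 1 => simp [evS, hx, ih]
    | 2 => simp [evS, hz, ih]
    | 3 => simp [evS, hz, ih]
    | (c + 4) => simp [evS, ht, ih]

/-- HO-HG (helper10's S2075 project). -/
theorem hg : StHG.{u} := by
  intro G _ x z t n k D hC hn hD h1 h2 hgen β hx hz ht
  have hfix := evS_fixed x z t β hx hz ht
  obtain ⟨w0, hw0⟩ : ∃ w0, w0 = n⁻¹ * β n := ⟨_, rfl⟩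
  have hβn : β n = n * w0 := by rw [hw0]; group
  have hcomm : ∀ d : G, β d = d → β (n * d * n⁻¹) = n * d * n⁻¹ → w0 * d = d * w0 := by
    intro d hd hnd
    rw [map_mul, map_mul, map_inv, hd, hβn] at hnd
    have h3 : n⁻¹ * (n * w0 * d * (n * w0)⁻¹) * n = n⁻¹ * (n * d * n⁻¹) * n := by rw [hnd]
    have h4 : n⁻¹ * (n * w0 * d * (n * w0)⁻¹) * n = w0 * d * w0⁻¹ := by group
    have h5 : n⁻¹ * (n * d * n⁻¹) * n = d := by group
    have h6 : w0 * d * w0⁻¹ = d := by rw [← h4, h3, h5]
    calc w0 * d = w0 * d * w0⁻¹ * w0 := by group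
      _ = d * w0 := by rw [h6]
  have hz' : w0 * z = z * w0 := by
    apply hcomm z hz
    rw [hn, map_pow, hz]
  obtain ⟨a, ha, hcase⟩ := hC w0 hz'
  have hD' : ∀ p ∈ D, w0 * evS x z t p.1 = evS x z t p.1 * w0 := by
    intro p hp
    apply hcomm _ (hfix _)
    rw [hD p hp]
    exact hfix _
  have hw1 : w0 = 1 := by
    rcases hcase with h | h
    · by_cases ha0 : a = 0
      · rw [h, ha0, pow_zero]
      · exfalso
        obtain ⟨p, hp, hne⟩ := h1 a (Nat.pos_of_ne_zero ha0) ha
        apply hne
        rw [← h]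
        exact hD' p hp
    · exfalso
      obtain ⟨p, hp, hne⟩ := h2 a ha
      apply hne
      rw [← h]
      exact hD' p hp
  have hβn' : β n = n := by rw [hβn, hw1, mul_one]
  ext g
  have hg : g ∈ Subgroup.closure ({x, z, t, n} : Set G) := by rw [hgen]; trivial
  simp only [MulAut.one_apply]
  induction hg using Subgroup.closure_induction with
  | mem y hy =>
    simp only [Set.mem_insert_iff, Set.mem_singleton_iff] at hy
    rcases hy with rfl | rfl | rfl | rfl <;> assumption
  | one => exact map_one β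
  | mul a b _ _ ha hb => rw [map_mul, ha, hb]
  | inv a _ ha => rw [map_inv, ha]

end Cfsg.Agent.H37.Ho

universe u in
example : Cfsg.Agent.H10.HO.StHG.{u} := Cfsg.Agent.H37.Ho.hg.{u}

#print axioms Cfsg.Agent.H37.Ho.hg
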