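import Mathlib
import Cfsg.Prelude.Def_CaseTheorems
import Cfsg.Agent.H37.PiSepQuot
import Cfsg.Agent.H37.Bender
import Cfsg.Agent.H58.Sig2
import Cfsg.Agent.H1.CoprimeSylow

set_option autoImplicit false
set_option linter.unusedSectionVars false

/-!
# Maximal local subgroups whose Fitting subgroup involves two primes (helper37, for S1481)

`H` is maximal among the local subgroups of the finite group `G`, `F = F(H)` is divisible by two
primes, `M ≤ F` with `C_F(M) ≤ M`, `R` is a solvable subgroup normalized by `M` and `C_H(F)`.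
Then for `q ∤ |F|` there is a unique maximal `M`-invariant `q`-subgroup of `R`, a Sylow
`q`-subgroup of `O_{π(F)'}(R)`.
-/

namespace Cfsg.Agent.H37.MaxLocal

open Cfsg Subgroup Cfsg.Agent.H54 Cfsg.Agent.H37.Bender
open Pointwise

universe u

variable {G : Type u} [Group G]

theorem subgroupOf_le_normalizer {A B : Subgroup G} (S : Subgroup G)
    (h : A ≤ normalizer (B : Set G)) :
    A.subgroupOf S ≤ normalizer ((B.subgroupOf S : Subgroup ↥S) : Set ↥S) := by
  apply le_normalizer_of_conj_mem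
  intro g hg x hx
  rw [Subgroup.mem_subgroupOf] at hg hx ⊢
  have := conj_mem_of_le_normalizer h hg hx
  simpa using this

theorem piCoreOf_le (π : Set ℕ) (R : Subgroup G) : Cfsg.piCoreOf π R ≤ R := by
  rintro _ ⟨x, -, rfl⟩; exact x.2

theorem le_normalizer_piCoreOf (π : Set ℕ) (R : Subgroup G) :
    normalizer (R : Set G) ≤ normalizer ((Cfsg.piCoreOf π R : Subgroup G) : Set G) := by
  apply le_normalizer_of_conj_mem
  intro g hg x hx
  exact H38.conj_mem_map_piCore (H := R) (K := normalizer (R : Set G)) Subgroup.le_normalizer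
    Subgroup.normal_in_normalizer g hg x hx

theorem le_piCoreOf {π : Set ℕ} {N R : Subgroup G} (hNR : N ≤ R)
    (hn : R ≤ normalizer (N : Set G)) (hN : H38.PiNat π (Nat.card N)) :
    N ≤ Cfsg.piCoreOf π R := by
  have hnorm : (N.subgroupOf R).Normal := (Subgroup.normal_subgroupOf_iff_le_normalizer hNR).mpr hn
  have h1 : N.subgroupOf R ≤ piCore π ↥R := by
    apply H38.le_piCore _ hnorm
    have hc : Nat.card ↥(N.subgroupOf R) = Nat.card ↥N :=
      Nat.card_congr (Subgroup.subgroupOfEquivOfLe hNR).toEquiv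
    rw [hc]
    exact hN
  intro x hx
  exact ⟨⟨x, hNR hx⟩, h1 (Subgroup.mem_subgroupOf.mpr hx), rfl⟩

variable [Finite G]

theorem piNat_card_piCoreOf (π : Set ℕ) (R : Subgroup G) :
    H38.PiNat π (Nat.card (Cfsg.piCoreOf π R)) := by
  unfold Cfsg.piCoreOf
  rw [Subgroup.card_subtype]
  exact H38.piNat_card_piCore π

theorem isSolvable_FOf (H : Subgroup G) : Group.IsSolvable ↥(FOf H) := by
  have hnil : Group.IsNilpotent ↥(fittingSubgroup ↥H) := Cfsg.Agent.H27.fitting_nilpotent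
  have hs : Group.IsSolvable ↥(fittingSubgroup ↥H) := inferInstance
  exact Group.isSolvable_of_surjective (MonoidHom.subgroupMap_surjective H.subtype (fittingSubgroup ↥H))

theorem isSolvable_of_le_FOf {M H : Subgroup G} (hM : M ≤ FOf H) : Group.IsSolvable ↥M := by
  have := isSolvable_FOf H
  exact Group.isSolvable_of_isSolvable_injective (Subgroup.inclusion_injective hM)

/-- An `M`-invariant subgroup of `H ∩ RM` of order coprime to `|F(H)|` is trivial. -/
theorem eq_bot_of_invariant_coprime (H M R : Subgroup G)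
    (hM : M ≤ FOf H) (hCM : FOf H ⊓ centralizer (M : Set G) ≤ M)
    (hR : Group.IsSolvable R) (hMR : M ≤ normalizer (R : Set G))
    (hXR : H ⊓ centralizer (FOf H : Set G) ≤ normalizer (R : Set G))
    (Y : Subgroup G) (hYH : Y ≤ H) (hYS : Y ≤ R ⊔ M) (hMY : M ≤ normalizer (Y : Set G))
    (hcop : (Nat.card Y).Coprime (Nat.card (FOf H))) : Y = ⊥ := by
  have hFn : H ≤ normalizer (FOf H : Set G) := le_normalizer_FOf H
  have hdisj : Y ⊓ FOf H = ⊥ := (Subgroup.disjoint_of_coprime_natCard hcop).eq_bot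
  -- `Y` centralizes `M`
  have hYM : ∀ y ∈ Y, ∀ m ∈ M, y * m = m * y := by
    intro y hy m hm
    have h1 : y * m * y⁻¹ * m⁻¹ ∈ Y := by
      have e : y * m * y⁻¹ * m⁻¹ = y * (m * y⁻¹ * m⁻¹) := by group
      rw [e]
      exact mul_mem hy (conj_mem_of_le_normalizer hMY hm (inv_mem hy))
    have h2 : y * m * y⁻¹ * m⁻¹ ∈ FOf H :=
      mul_mem (conj_mem_of_le_normalizer hFn (hYH hy) (hM hm)) (inv_mem (hM hm))
    have h3 : y * m * y⁻¹ * m⁻¹ ∈ Y ⊓ FOf H := ⟨h1, h2⟩
    rw [hdisj, Subgroup.mem_bot] at h3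
    calc y * m = (y * m * y⁻¹ * m⁻¹) * m * y := by group
      _ = m * y := by rw [h3, one_mul]
  -- `Y` centralizes each `O_r(H)`
  have hYP : ∀ r : ℕ, r.Prime → ∀ y ∈ Y, ∀ x ∈ Cfsg.pCoreOf r H, y * x = x * y := by
    intro r hr
    have : Fact r.Prime := ⟨hr⟩
    by_cases hrF : r ∣ Nat.card (fittingSubgroup ↥H)
    · have hPp : IsPGroup r (Cfsg.pCoreOf r H) := isPGroup_pCoreOf H
      apply thompson_AxB Y (M ⊓ Cfsg.pCoreOf r H) (Cfsg.pCoreOf r H) (hPp.to_le inf_le_right)
        ?_ ?_ hPp (hYH.trans (le_normalizer_pCoreOf H)) (inf_le_right.trans le_normalizer) ?_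
      · rw [← card_FOf] at hrF
        exact Nat.Coprime.coprime_dvd_right hrF hcop
      · intro a ha b hb; exact hYM a ha b hb.1
      · intro a ha x hx hxB
        have hxM : x ∈ M := by
          apply hCM
          refine Subgroup.mem_inf.mpr ⟨pCoreOf_le_FOf r H hx, ?_⟩
          rw [Subgroup.mem_centralizer_iff]
          intro g hg
          obtain ⟨u, hu, c, hc, rfl⟩ := exists_decomp r H (hM hg)
          have huc : u * c = c * u :=
            (Subgroup.mem_centralizer_iff.mp (compOf_le_centralizer r H hc) u hu)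
          have hxc : x * c = c * x :=
            (Subgroup.mem_centralizer_iff.mp (compOf_le_centralizer r H hc) x hx)
          have hcn : c ^ Nat.card (compOf r H) = 1 := by
            have h := pow_card_eq_one' (G := compOf r H) (x := ⟨c, hc⟩)
            have h' := congrArg Subtype.val h
            rw [Subgroup.coe_pow] at h'
            exact h'
          have hun : u ^ Nat.card (compOf r H) ∈ M := by
            have e : (u * c) ^ Nat.card (compOf r H) = u ^ Nat.card (compOf r H) := by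
              rw [(show Commute u c from huc).mul_pow, hcn, mul_one]
            rw [← e]; exact pow_mem hg _
          have hxun : x * u ^ Nat.card (compOf r H) = u ^ Nat.card (compOf r H) * x :=
            (hxB _ ⟨hun, pow_mem hu _⟩).symm
          have hcop' : (Nat.card (compOf r H)).Coprime (orderOf u) := by
            obtain ⟨k, hk⟩ := hPp ⟨u, hu⟩
            have hk' : u ^ r ^ k = 1 := by simpa using congrArg Subtype.val hk
            have hd : orderOf u ∣ r ^ k := orderOf_dvd_of_pow_eq_one hk'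
            exact Nat.Coprime.coprime_dvd_right hd
              (Nat.Coprime.pow_right k (card_compOf_coprime r H))
          obtain ⟨m, hm⟩ := exists_pow_eq_self_of_coprime hcop'
          have hxu : x * u = u * x := by
            have : Commute x ((u ^ Nat.card (compOf r H)) ^ m) :=
              (show Commute x (u ^ Nat.card (compOf r H)) from hxun).pow_right m
            rw [hm] at this
            exact this
          calc u * c * x = u * (c * x) := mul_assoc _ _ _
            _ = u * (x * c) := by rw [hxc]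
            _ = (u * x) * c := (mul_assoc _ _ _).symm
            _ = x * u * c := by rw [hxu]
            _ = x * (u * c) := mul_assoc _ _ _
        exact hYM a ha x hxM
    · intro y _ x hx
      rw [pCoreOf_eq_bot_of_not_dvd hrF, Subgroup.mem_bot] at hx
      rw [hx, mul_one, one_mul]
  -- `Y` centralizes `F(H)`
  have hYF : ∀ y ∈ Y, ∀ f ∈ FOf H, y * f = f * y := by
    intro y hy f hf
    obtain ⟨u, hu, c, hc, rfl⟩ := exists_decomp 2 H hf
    have h1 : y * u = u * y := hYP 2 Nat.prime_two y hy u hu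
    have h2 : y * c = c * y := comm_compOf (fun s hs _ b hb => hYP s hs y hy b hb) c hc
    rw [← mul_assoc, h1, mul_assoc, h2, mul_assoc]
  -- `W = C_H(F) ∩ RM` lies in `F(H)`
  have hXnS : H ⊓ centralizer (FOf H : Set G) ≤ normalizer ((R ⊔ M : Subgroup G) : Set G) := by
    apply le_normalizer_sup' hXR
    apply le_normalizer_of_conj_mem
    intro g hg m hm
    have hgm : g * m = m * g := (Subgroup.mem_centralizer_iff.mp hg.2 m (hM hm)).symm
    rw [hgm, mul_inv_cancel_right]; exact hm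
  have hSsolv : Group.IsSolvable ↥(R ⊔ M) :=
    Cfsg.Agent.H58.isSolvable_sup hMR hR (isSolvable_of_le_FOf hM)
  have hWsolv : Group.IsSolvable ↥(H ⊓ centralizer (FOf H : Set G) ⊓ (R ⊔ M)) :=
    Group.isSolvable_of_isSolvable_injective (Subgroup.inclusion_injective inf_le_right)
  have hEX : EOf H ≤ H ⊓ centralizer (FOf H : Set G) := by
    intro e he
    refine Subgroup.mem_inf.mpr ⟨EOf_le H he, ?_⟩
    rw [Subgroup.mem_centralizer_iff]
    intro f hf
    exact (EOf_comm_FOf H e he f hf).symm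
  have hEW : EOf H ≤ normalizer ((H ⊓ centralizer (FOf H : Set G) ⊓ (R ⊔ M) : Subgroup G) : Set G) :=
    hEX.trans (le_normalizer_inf' le_normalizer hXnS)
  have hW : H ⊓ centralizer (FOf H : Set G) ⊓ (R ⊔ M) ≤ FOf H := by
    intro y hy
    apply mem_FOf_of_centralizes hy.1.1
    · intro e he
      exact centralizes_EOf (inf_le_left.trans inf_le_left) hWsolv hEW e he y hy
    · intro f hf
      exact Subgroup.mem_centralizer_iff.mp hy.1.2 f hf
  have hYle : Y ≤ FOf H := by
    intro y hy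
    apply hW
    refine Subgroup.mem_inf.mpr ⟨Subgroup.mem_inf.mpr ⟨hYH hy, ?_⟩, hYS hy⟩
    rw [Subgroup.mem_centralizer_iff]
    intro f hf
    exact (hYF y hy f hf).symm
  rw [eq_bot_iff]
  intro y hy
  have hmem : y ∈ Y ⊓ FOf H := ⟨hy, hYle hy⟩
  rwa [hdisj] at hmem

theorem normalizer_ZOf_eq (H : Subgroup G)
    (hHmax : ∀ L : Subgroup G, Cfsg.IsLocalSubgroup L → H ≤ L → L = H)
    {p : ℕ} [hp : Fact p.Prime] (hpF : p ∣ Nat.card (FOf H)) :
    normalizer ((ZOf p H : Subgroup G) : Set G) = H := by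
  apply hHmax _ ⟨p, ZOf p H, hp.out, isPGroup_ZOf p H, ?_, rfl⟩ (le_normalizer_ZOf p H)
  apply ZOf_ne_bot
  apply pCoreOf_ne_bot_of_dvd
  rwa [card_FOf] at hpF

theorem ZOf_le_of_self_centralizing (H M : Subgroup G)
    (hM : M ≤ FOf H) (hCM : FOf H ⊓ centralizer (M : Set G) ≤ M) (p : ℕ) [Fact p.Prime] :
    ZOf p H ≤ M := by
  intro z hz
  apply hCM
  refine Subgroup.mem_inf.mpr ⟨pCoreOf_le_FOf p H (ZOf_le_pCoreOf p H hz), ?_⟩
  rw [Subgroup.mem_centralizer_iff]
  intro m hm
  exact (ZOf_comm_FOf p H z hz m (hM hm)).symm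

/-- An `M`-invariant `q`-subgroup of `R` lies in `O_{π(F)'}(RM)`. -/
theorem le_piCoreOf_sup (H : Subgroup G)
    (hHmax : ∀ L : Subgroup G, Cfsg.IsLocalSubgroup L → H ≤ L → L = H)
    (hF2 : 2 ≤ (Nat.card (FOf H)).primeFactors.card)
    (M : Subgroup G) (hM : M ≤ FOf H) (hCM : FOf H ⊓ centralizer (M : Set G) ≤ M)
    (R : Subgroup G) (hR : Group.IsSolvable R) (hMR : M ≤ normalizer (R : Set G))
    (hXR : H ⊓ centralizer (FOf H : Set G) ≤ normalizer (R : Set G))
    (q : ℕ) [Fact q.Prime] (hq : ¬ q ∣ Nat.card (FOf H))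
    (Q : Subgroup G) (hQR : Q ≤ R) (hQ : IsPGroup q Q) (hMQ : M ≤ normalizer (Q : Set G)) :
    Q ≤ Cfsg.piCoreOf (Cfsg.primesNotDvd (Nat.card (FOf H))) (R ⊔ M) := by
  obtain ⟨S, hSdef⟩ : ∃ S : Subgroup G, S = R ⊔ M := ⟨_, rfl⟩
  rw [← hSdef]
  have hRS : R ≤ S := by rw [hSdef]; exact le_sup_left
  have hMS : M ≤ S := by rw [hSdef]; exact le_sup_right
  have hSsolv : Group.IsSolvable ↥S := by
    rw [hSdef]; exact Cfsg.Agent.H58.isSolvable_sup hMR hR (isSolvable_of_le_FOf hM)
  have h2 : ∀ p : ℕ, p.Prime → p ∣ Nat.card (FOf H) →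
      ∃ p₂ : ℕ, p₂.Prime ∧ p₂ ∣ Nat.card (FOf H) ∧ p₂ ≠ p := by
    intro p _ _
    obtain ⟨b, hb, hne⟩ := Finset.exists_mem_ne
      (show 1 < (Nat.card (FOf H)).primeFactors.card by omega) p
    exact ⟨b, Nat.prime_of_mem_primeFactors hb, Nat.dvd_of_mem_primeFactors hb, hne⟩
  have hcentH : ∀ p : ℕ, p.Prime → p ∣ Nat.card (FOf H) → ∀ c : ↥S,
      c ∈ centralizer (((ZOf p H).subgroupOf S : Subgroup ↥S) : Set ↥S) → (c : G) ∈ H := by
    intro p hp hpn c hc
    have : Fact p.Prime := ⟨hp⟩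
    rw [← normalizer_ZOf_eq H hHmax hpn]
    apply Subgroup.centralizer_le_normalizer
    rw [Subgroup.mem_centralizer_iff]
    intro w hw
    have hwS : w ∈ S := hMS (ZOf_le_of_self_centralizing H M hM hCM p hw)
    have := Subgroup.mem_centralizer_iff.mp hc ⟨w, hwS⟩ (Subgroup.mem_subgroupOf.mpr hw)
    exact congrArg Subtype.val this
  have key := le_piCore_of_local_conditions (T := ↥S) (Nat.card (FOf H)) (M.subgroupOf S)
    (Q.subgroupOf S) (fun p => (ZOf p H).subgroupOf S) hq hQ.comap_subtype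
    (subgroupOf_le_normalizer S hMQ) h2 ?_ ?_ ?_ ?_ ?_ ?_
  · intro x hx
    have hxS : x ∈ S := hRS (hQR hx)
    have := key (show (⟨x, hxS⟩ : ↥S) ∈ Q.subgroupOf S from Subgroup.mem_subgroupOf.mpr hx)
    exact ⟨⟨x, hxS⟩, this, rfl⟩
  · intro p _ _
    exact (isPGroup_ZOf p H).comap_subtype
  · intro p hp _ x hx
    have : Fact p.Prime := ⟨hp⟩
    exact Subgroup.mem_subgroupOf.mpr
      (ZOf_le_of_self_centralizing H M hM hCM p (Subgroup.mem_subgroupOf.mp hx))
  · intro p _ _
    exact subgroupOf_le_normalizer S ((hM.trans (FOf_le H)).trans (le_normalizer_ZOf p H))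
  · intro p p₂ hp _ hp₂ _ hne a ha b hb
    have : Fact p.Prime := ⟨hp⟩
    have : Fact p₂.Prime := ⟨hp₂⟩
    apply Subtype.ext
    exact pCoreOf_comm hne H (a : G) (ZOf_le_pCoreOf p H (Subgroup.mem_subgroupOf.mp ha)) (b : G)
      (ZOf_le_pCoreOf p₂ H (Subgroup.mem_subgroupOf.mp hb))
  · intro p p₂ hp hpn _ _ _ c hc z hz
    have hcH : (c : G) ∈ H := hcentH p hp hpn c hc
    have := conj_mem_of_le_normalizer (le_normalizer_ZOf p₂ H) hcH (Subgroup.mem_subgroupOf.mp hz)
    rw [Subgroup.mem_subgroupOf]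
    simpa using this
  · intro p hp hpn Y hYc hMY hYcop
    have hmap : Y.map S.subtype = ⊥ := by
      apply eq_bot_of_invariant_coprime H M R hM hCM hR hMR hXR (Y.map S.subtype)
      · rintro _ ⟨y, hy, rfl⟩
        exact hcentH p hp hpn y (hYc hy)
      · rintro _ ⟨y, hy, rfl⟩
        rw [← hSdef]; exact y.2
      · apply le_normalizer_of_conj_mem
        rintro m hm _ ⟨y, hy, rfl⟩
        have hmS : m ∈ S := hMS hm
        have := conj_mem_of_le_normalizer hMY
          (show (⟨m, hmS⟩ : ↥S) ∈ M.subgroupOf S from Subgroup.mem_subgroupOf.mpr hm) hy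
        exact ⟨_, this, by simp⟩
      · rw [Subgroup.card_subtype]; exact hYcop
    exact (Subgroup.map_eq_bot_iff_of_injective _ (Subgroup.subtype_injective _)).mp hmap

/-- The statement of S1481 with `F(H)` written as `FOf H`. -/
theorem unique_max_invariant (H : Subgroup G)
    (hHmax : ∀ L : Subgroup G, Cfsg.IsLocalSubgroup L → H ≤ L → L = H)
    (hF2 : 2 ≤ (Nat.card (FOf H)).primeFactors.card)
    (M : Subgroup G) (hM : M ≤ FOf H) (hCM : FOf H ⊓ centralizer (M : Set G) ≤ M)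
    (R : Subgroup G) (hR : Group.IsSolvable R) (hMR : M ≤ normalizer (R : Set G))
    (hXR : H ⊓ centralizer (FOf H : Set G) ≤ normalizer (R : Set G))
    (q : ℕ) [hqp : Fact q.Prime] (hq : ¬ q ∣ Nat.card (FOf H)) :
    ∃! Q : Subgroup G, Q ∈ Cfsg.maxInvSubgroups R M {q} ∧
      (∀ Q' : Subgroup G, Q' ∈ Cfsg.maxInvSubgroups R M {q} →
        Q' ≤ Cfsg.piCoreOf (Cfsg.primesNotDvd (Nat.card (FOf H))) R ∧
        ¬ q ∣ Q'.relIndex (Cfsg.piCoreOf (Cfsg.primesNotDvd (Nat.card (FOf H))) R)) := by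
  classical
  obtain ⟨σ, hσ⟩ : ∃ σ : Set ℕ, σ = Cfsg.primesNotDvd (Nat.card (FOf H)) := ⟨_, rfl⟩
  have hstep6' := le_piCoreOf_sup H hHmax hF2 M hM hCM R hR hMR hXR q hq
  rw [← hσ] at hstep6' ⊢
  obtain ⟨KR, hKR⟩ : ∃ KR : Subgroup G, KR = Cfsg.piCoreOf σ R := ⟨_, rfl⟩
  rw [← hKR]
  have hKRR : KR ≤ R := by rw [hKR]; exact piCoreOf_le σ R
  have hKRcop : (Nat.card KR).Coprime (Nat.card (FOf H)) := by
    apply Nat.coprime_of_dvd
    intro r hr hrK hrn
    have hmem : r ∈ σ := by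
      have := piNat_card_piCoreOf σ R r hr
      rw [← hKR] at this
      exact this hrK
    rw [hσ] at hmem
    exact hmem.2 hrn
  have hMKR : M ≤ normalizer (KR : Set G) := by
    rw [hKR]; exact hMR.trans (le_normalizer_piCoreOf σ R)
  have hMcop : (Nat.card M).Coprime (Nat.card KR) :=
    (Nat.Coprime.coprime_dvd_right (Subgroup.card_dvd_of_le hM) hKRcop).symm
  have hKRsolv : Group.IsSolvable ↥KR :=
    Group.isSolvable_of_isSolvable_injective (Subgroup.inclusion_injective hKRR)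
  -- a prime dividing `|F|`
  obtain ⟨p, hp, hpF⟩ : ∃ p : ℕ, p.Prime ∧ p ∣ Nat.card (FOf H) := by
    have hne : (Nat.card (FOf H)).primeFactors.Nonempty := Finset.card_pos.mp (by omega)
    obtain ⟨p, hp⟩ := hne
    exact ⟨p, Nat.prime_of_mem_primeFactors hp, Nat.dvd_of_mem_primeFactors hp⟩
  have : Fact p.Prime := ⟨hp⟩
  have hZH : normalizer ((ZOf p H : Subgroup G) : Set G) = H := normalizer_ZOf_eq H hHmax hpF
  have hZM : ZOf p H ≤ M := ZOf_le_of_self_centralizing H M hM hCM p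
  -- `C_{K_R}(M) = 1`
  have hCK : KR ⊓ centralizer (M : Set G) = ⊥ := by
    apply eq_bot_of_invariant_coprime H M R hM hCM hR hMR hXR
    · intro y hy
      rw [← hZH]
      apply Subgroup.centralizer_le_normalizer
      rw [Subgroup.mem_centralizer_iff]
      intro z hz
      exact Subgroup.mem_centralizer_iff.mp hy.2 z (hZM hz)
    · exact inf_le_left.trans (hKRR.trans le_sup_left)
    · exact le_normalizer_inf' hMKR
        ((Subgroup.le_normalizer (H := M)).trans (normalizer_le_normalizer_centralizer M))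
    · exact Nat.Coprime.coprime_dvd_left (Subgroup.card_dvd_of_le inf_le_left) hKRcop
  -- every `M`-invariant `q`-subgroup of `R` lies in `K_R`
  have hstep6 : ∀ Q : Subgroup G, Q ≤ R → IsPGroup q Q → M ≤ normalizer (Q : Set G) → Q ≤ KR := by
    intro Q hQR hQ hMQ
    have h1 := hstep6' Q hQR hQ hMQ
    have h2 : Cfsg.piCoreOf σ (R ⊔ M) ⊓ R ≤ Cfsg.piCoreOf σ R := by
      apply le_piCoreOf inf_le_right
      · exact le_normalizer_inf' ((le_sup_left : R ≤ R ⊔ M).trans
          (Subgroup.le_normalizer.trans (le_normalizer_piCoreOf σ (R ⊔ M)))) Subgroup.le_normalizer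
      · exact (piNat_card_piCoreOf σ (R ⊔ M)).of_dvd (Subgroup.card_dvd_of_le inf_le_left)
    rw [hKR]
    exact fun x hx => h2 ⟨h1 hx, hQR hx⟩
  -- the invariant Sylow `q`-subgroup
  obtain ⟨X₀, hX₀K, hX₀c, hX₀M⟩ :=
    Cfsg.Agent.H1.coprime_exists_invariant_sylow_aux M KR hMKR hMcop (Or.inr hKRsolv) q
  have hall : ∀ Q : Subgroup G, Q ≤ R → IsPGroup q Q → M ≤ normalizer (Q : Set G) → Q ≤ X₀ := by
    intro Q hQR hQ hMQ
    obtain ⟨X, hXK, hXc, hXM, hQX⟩ :=
      Cfsg.Agent.H1.coprime_invariant_pgroup_le_sylow_aux M KR hMKR hMcop (Or.inr hKRsolv) q _ Q rfl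
        (hstep6 Q hQR hQ hMQ) hQ hMQ
    obtain ⟨c, hc, hcX⟩ := Cfsg.Agent.H1.coprime_sylow_conj_aux M KR hMKR hMcop (Or.inr hKRsolv) q
      X₀ X hX₀K hXK hX₀c hXc hX₀M hXM
    rw [hCK, Subgroup.mem_bot] at hc
    subst hc
    rw [map_one, one_smul] at hcX
    rw [hcX]
    exact hQX
  have hqiff : ∀ Y : Subgroup G,
      (∀ r : ℕ, r.Prime → r ∣ Nat.card Y → r ∈ ({q} : Set ℕ)) → IsPGroup q Y := by
    intro Y hY
    exact IsPGroup.iff_card.mpr ((H38.piNat_singleton_iff hqp.out Nat.card_pos.ne').mp hY)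
  have hX₀inv : X₀ ∈ Cfsg.invSubgroups R M {q} := by
    refine ⟨hX₀K.trans hKRR, ?_, hX₀M⟩
    intro r hr hrd
    rw [hX₀c] at hrd
    exact (Nat.prime_dvd_prime_iff_eq hr hqp.out).mp (hr.dvd_of_dvd_pow hrd)
  have hX₀max : X₀ ∈ Cfsg.maxInvSubgroups R M {q} := by
    refine ⟨hX₀inv, ?_⟩
    intro Y hY hle
    exact le_antisymm (hall Y hY.1 (hqiff Y hY.2.1) hY.2.2) hle
  have huniq : ∀ Q' : Subgroup G, Q' ∈ Cfsg.maxInvSubgroups R M {q} → Q' = X₀ := by
    intro Q' hQ'
    have hle : Q' ≤ X₀ := hall Q' hQ'.1.1 (hqiff Q' hQ'.1.2.1) hQ'.1.2.2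
    exact (hQ'.2 X₀ hX₀inv hle).symm
  have hsyl : ¬ q ∣ X₀.relIndex KR := by
    intro hdvd
    have h1 : Nat.card X₀ * X₀.relIndex KR = Nat.card KR := by
      have := Subgroup.relIndex_mul_relIndex (⊥ : Subgroup G) X₀ KR bot_le hX₀K
      rwa [Subgroup.relIndex_bot_left, Subgroup.relIndex_bot_left] at this
    have h2 : q ^ ((Nat.card KR).factorization q + 1) ∣ Nat.card KR := by
      have h3 : q ^ ((Nat.card KR).factorization q + 1) ∣ Nat.card X₀ * X₀.relIndex KR := by
        rw [hX₀c, pow_succ]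
        exact Nat.mul_dvd_mul_left _ hdvd
      rwa [h1] at h3
    exact Nat.pow_succ_factorization_not_dvd Nat.card_pos.ne' hqp.out h2
  refine ⟨X₀, ⟨hX₀max, ?_⟩, ?_⟩
  · intro Q' hQ'
    rw [huniq Q' hQ']
    exact ⟨hX₀K, hsyl⟩
  · rintro Y ⟨hY, -⟩
    exact huniq Y hY

end Cfsg.Agent.H37.MaxLocal
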