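import Mathlib
import Cfsg.Agent.H7.RTDefs0

set_option autoImplicit false

/-!
# Team project S2359 (helper7): the generic piece BURN (helper37)
-/

namespace Cfsg.Agent.H37.RT

open Cfsg.Agent.H7.RT Subgroup

universe u

/-- (BURN). -/
theorem burn : StBurn.{u} := by
  intro G _ _ V hV4 hVexp hT hN
  have : Fact (Nat.Prime 2) := ⟨Nat.prime_two⟩
  have hV2 : IsPGroup 2 V := IsPGroup.of_card (n := 2) (by rw [hV4]; norm_num)
  obtain ⟨P, hVP⟩ := hV2.exists_le_sylow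
  have hPV : V = (P : Subgroup G) :=
    Subgroup.eq_of_le_of_card_ge hVP (by rw [hV4]; exact hT _ P.isPGroup')
  have hP : normalizer ((P : Subgroup G) : Set G) ≤ centralizer ((P : Subgroup G) : Set G) := by
    intro n hn
    rw [Subgroup.mem_centralizer_iff]
    intro v hv
    rw [← hPV] at hv hn
    have h1 := hN n (fun w hw => (Subgroup.mem_normalizer_iff.mp hn w).mp hw) v hv
    exact h1.symm
  refine ⟨(MonoidHom.transferSylow P hP).ker, inferInstance, ?_, ?_⟩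
  · have h := MonoidHom.not_dvd_card_ker_transferSylow P hP
    exact Nat.odd_iff.mpr (Nat.two_dvd_ne_zero.mp h)
  · intro y
    have hc := MonoidHom.ker_transferSylow_isComplement' P hP
    obtain ⟨⟨⟨k, hk⟩, ⟨v, hv⟩⟩, hkv⟩ := hc.2 y
    exact ⟨k, hk, v, hPV ▸ hv, hkv.symm⟩

/-- The statement, verbatim. -/
example : ∀ (G : Type u) [Group G] [Finite G] (V : Subgroup G), Nat.card V = 4 →
    (∀ v ∈ V, v * v = 1) →
    (∀ T : Subgroup G, IsPGroup 2 T → Nat.card T ≤ 4) →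
    (∀ n : G, (∀ v ∈ V, n * v * n⁻¹ ∈ V) → ∀ v ∈ V, n * v = v * n) →
    ∃ K : Subgroup G, K.Normal ∧ Odd (Nat.card K) ∧ ∀ y : G, ∃ k ∈ K, ∃ v ∈ V, y = k * v :=
  burn.{u}

end Cfsg.Agent.H37.RT
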