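import Mathlib
import Cfsg.Agent.H7.RTDefs

set_option autoImplicit false
set_option linter.style.haveILetI false

/-!
# Team project S2359 (helper7): the piece CONJH (helper37)
-/

namespace Cfsg.Agent.H37.RT

open Cfsg Cfsg.Lie Cfsg.Agent.H22 Cfsg.Agent.H22.GEx Cfsg.Agent.H22.Ree Cfsg.Agent.H45.R2
  Cfsg.Agent.H7.RC Cfsg.Agent.H7.RT Matrix

universe u

variable {K : Type u} [Field K] [CharP K 3] {m : ℕ}

/-- If `N ≡ 3 (mod 8)` then `(N - 1) / 2` is odd. -/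
theorem odd_half_of_mod8 (N : ℕ) (h : N % 8 = 3) : Odd ((N - 1) / 2) := by
  rw [Nat.odd_iff]; omega

/-- (CONJH). -/
theorem conjH (C : Ctx K (3 ^ m)) (hcen : StCentH C) (h1 : StConjH1 K m) : StConjH K m := by
  intro y hy1 hyd
  have hq := q_mod8 m
  have hNodd : Odd ((3 ^ (2 * m + 1) - 1) / 2) := odd_half_of_mod8 _ hq
  have hn0 : orderOf y ≠ 0 := by
    intro h0
    rw [h0, zero_dvd_iff] at hyd
    rw [hyd] at hNodd
    exact absurd hNodd (by decide)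
  have hn1 : orderOf y ≠ 1 := fun h => hy1 (orderOf_eq_one_iff.mp h)
  obtain ⟨p, hp, hpn⟩ := Nat.exists_prime_and_dvd hn1
  haveI : Fact p.Prime := ⟨hp⟩
  have hy' : orderOf (y ^ (orderOf y / p)) = p := orderOf_pow_orderOf_div hn0 hpn
  have hpN : p ∣ (3 ^ (2 * m + 1) - 1) / 2 := hpn.trans hyd
  obtain ⟨g, hg⟩ := h1 p hpN (y ^ (orderOf y / p)) hy'
  refine ⟨g, ?_⟩
  have hpodd : Odd p := Odd.of_dvd_nat hNodd hpN
  have hord : orderOf (g * y ^ (orderOf y / p) * g⁻¹) = p := by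
    rw [← MulAut.conj_apply, MulEquiv.orderOf_eq, hy']
  have hne : ((g * y ^ (orderOf y / p) * g⁻¹ : ↥(twistedG2 K (3 ^ m))) : GL chevG2.Idx K) *
      ((g * y ^ (orderOf y / p) * g⁻¹ : ↥(twistedG2 K (3 ^ m))) : GL chevG2.Idx K) ≠ 1 := by
    intro hc
    have h2 : (g * y ^ (orderOf y / p) * g⁻¹) ^ 2 = 1 := by
      rw [pow_two]; exact Subtype.ext hc
    have h3 : p ∣ 2 := hord ▸ orderOf_dvd_of_pow_eq_one h2
    have h4 : p = 2 := (Nat.prime_dvd_prime_iff_eq hp Nat.prime_two).mp h3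
    rw [h4] at hpodd
    exact absurd hpodd (by decide)
  have hcomm : g * y * g⁻¹ * (g * y ^ (orderOf y / p) * g⁻¹) =
      g * y ^ (orderOf y / p) * g⁻¹ * (g * y * g⁻¹) := by
    rw [← conj_pow]
    exact (Commute.pow_right (Commute.refl _) _).eq
  rw [mem_H1G]
  exact hcen _ ⟨(mem_H1G _).mp hg, (g * y ^ (orderOf y / p) * g⁻¹).2⟩ hne _ (g * y * g⁻¹).2
    (congrArg Subtype.val hcomm)

/-- The statement, verbatim. -/
example (C : Ctx K (3 ^ m)) (hcen : StCentH C) (h1 : StConjH1 K m) :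
    ∀ y : ↥(twistedG2 K (3 ^ m)), y ≠ 1 → orderOf y ∣ (3 ^ (2 * m + 1) - 1) / 2 →
    ∃ g : ↥(twistedG2 K (3 ^ m)), g * y * g⁻¹ ∈ H1G K (3 ^ m) := conjH C hcen h1

end Cfsg.Agent.H37.RT
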