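import Mathlib
import Cfsg.Agent.H7.RTDefs0

set_option autoImplicit false

/-!
# Team project S2359 (helper7): the generic pieces CONJINTO, TWOBOUND and BURN (helper37)
-/

namespace Cfsg.Agent.H37.RT

open Cfsg.Agent.H7.RT Subgroup
open scoped Pointwise

universe u

/-- (CONJINTO). -/
theorem conjInto : StConjInto.{u} := by
  intro G _ _ p _ Q hQ x hx
  have hp : p.Prime := Fact.out
  -- a Sylow `p`-subgroup of `Q`, pushed to `G`, is a Sylow `p`-subgroup of `G`
  obtain ⟨P0⟩ : Nonempty (Sylow p Q) := inferInstance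
  have hdvd : Nat.card Q ∣ Nat.card G := Subgroup.card_subgroup_dvd_card Q
  have hle : (Nat.card Q).factorization p ≤ (Nat.card G).factorization p :=
    (Nat.factorization_le_iff_dvd Nat.card_pos.ne' Nat.card_pos.ne').mpr hdvd p
  have heq : (Nat.card Q).factorization p = (Nat.card G).factorization p := le_antisymm hle hQ
  have hcard : Nat.card ↥((P0 : Subgroup Q).map Q.subtype) = p ^ (Nat.card G).factorization p := by
    rw [Subgroup.card_subtype, Sylow.card_eq_multiplicity, heq]
  have hxp : IsPGroup p (zpowers x) :=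
    IsPGroup.of_card (n := 1) (by rw [Nat.card_zpowers, hx, pow_one])
  obtain ⟨P2, hP2⟩ := hxp.exists_le_sylow
  obtain ⟨g, hg⟩ := MulAction.exists_smul_eq G P2 (Sylow.ofCard _ hcard)
  refine ⟨g, ?_⟩
  have h1 : MulAut.conj g • x ∈ MulAut.conj g • (P2 : Subgroup G) :=
    Subgroup.smul_mem_pointwise_smul x (MulAut.conj g) _ (hP2 (mem_zpowers x))
  have h2 : ((g • P2 : Sylow p G) : Subgroup G) = (P0 : Subgroup Q).map Q.subtype := by
    rw [hg, Sylow.coe_ofCard]
  rw [Sylow.smul_def, Sylow.pointwise_smul_def] at h2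
  rw [h2, MulAut.smul_def, MulAut.conj_apply] at h1
  exact Subgroup.map_subtype_le _ h1

/-- The statement, verbatim. -/
example : ∀ (G : Type u) [Group G] [Finite G] (p : ℕ) [Fact p.Prime] (Q : Subgroup G),
    (Nat.card G).factorization p ≤ (Nat.card Q).factorization p →
    ∀ x : G, orderOf x = p → ∃ g : G, g * x * g⁻¹ ∈ Q := conjInto.{u}

end Cfsg.Agent.H37.RT
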