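import Mathlib
import Cfsg.Agent.H7.RTDefs

set_option autoImplicit false
set_option linter.style.haveILetI false

/-!
# Team project S2359 (helper7): the piece CONJPSI (helper37)
-/

namespace Cfsg.Agent.H37.RT

open Cfsg Cfsg.Lie Cfsg.Agent.H22 Cfsg.Agent.H22.GEx Cfsg.Agent.H22.Ree Cfsg.Agent.H45.R2
  Cfsg.Agent.H7.RC Cfsg.Agent.H7.RT Matrix

universe u

variable {K : Type u} [Field K] [CharP K 3] {m : ℕ}

/-- If `N ≡ 3 (mod 8)` then `(N + 1) / 4` is odd. -/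
theorem odd_quarter_of_mod8 (N : ℕ) (h : N % 8 = 3) : Odd ((N + 1) / 4) := by
  rw [Nat.odd_iff]; omega

/-- If `N ≡ 3 (mod 8)` then `4 ∣ N + 1`. -/
theorem four_dvd_of_mod8 (N : ℕ) (h : N % 8 = 3) : 4 ∣ N + 1 := by
  omega

/-- (CONJPSI). -/
theorem conjPsi (C : Ctx K (3 ^ m)) (hc : CommStmt (K := K)) (hmem : MemStmt C)
    (hac : ACommStmt C) (hdm : StDMem C hc hmem) (hlift : StLift C hc hmem)
    (hcore : StCoreB' C hc hmem) (h1 : StConjPsi1 C hc hmem) : StConjPsi C hc hmem := by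
  intro y hy1 hyd
  have hq := q_mod8 m
  have hNodd : Odd ((3 ^ (2 * m + 1) + 1) / 4) := odd_quarter_of_mod8 _ hq
  have hN4 : (3 ^ (2 * m + 1) + 1) / 4 ∣ 3 ^ (2 * m + 1) + 1 :=
    Nat.div_dvd_of_dvd (four_dvd_of_mod8 _ hq)
  have hn0 : orderOf y ≠ 0 := by
    intro h0
    rw [h0, zero_dvd_iff] at hyd
    rw [hyd] at hNodd
    exact absurd hNodd (by decide)
  have hn1 : orderOf y ≠ 1 := fun h => hy1 (orderOf_eq_one_iff.mp h)
  obtain ⟨p, hp, hpn⟩ := Nat.exists_prime_and_dvd hn1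
  haveI : Fact p.Prime := ⟨hp⟩
  have hy' : orderOf (y ^ (orderOf y / p)) = p := orderOf_pow_orderOf_div hn0 hpn
  have hpN : p ∣ (3 ^ (2 * m + 1) + 1) / 4 := hpn.trans hyd
  obtain ⟨g, s, hgs⟩ := h1 p hpN (y ^ (orderOf y / p)) hy'
  have hpodd : Odd p := Odd.of_dvd_nat hNodd hpN
  have hord : orderOf (g * y ^ (orderOf y / p) * g⁻¹) = p := by
    rw [← MulAut.conj_apply, MulEquiv.orderOf_eq, hy']
  have hx1 : g * y ^ (orderOf y / p) * g⁻¹ ≠ 1 := by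
    intro h
    rw [h, orderOf_one] at hord
    exact hp.one_lt.ne hord
  have hxa : g * y ^ (orderOf y / p) * g⁻¹ * aEl C = aEl C * (g * y ^ (orderOf y / p) * g⁻¹) := by
    rw [hgs]; exact (aEl_comm C hc hmem hac s).symm
  obtain ⟨t₀, ht₀, ht₀1, ht₀d⟩ := hlift _ hx1 (by rw [hord]; exact hpodd) hxa
  rw [hord] at ht₀d
  have ht₀p : orderOf t₀ = p := by
    rcases (Nat.dvd_prime hp).mp ht₀d with h | h
    · exact absurd (orderOf_eq_one_iff.mp h) ht₀1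
    · exact h
  have hcomm : g * y * g⁻¹ * psiG C hc hmem t₀ = psiG C hc hmem t₀ * (g * y * g⁻¹) := by
    rw [ht₀, ← conj_pow]
    exact (Commute.pow_right (Commute.refl _) _).eq
  have hD := hcore t₀ ht₀1 (by rw [ht₀p]; exact hpodd) (by rw [ht₀p]; exact hpN.trans hN4)
    (g * y * g⁻¹) hcomm
  obtain ⟨s', -, hs'⟩ := (hdm t₀ (g * y * g⁻¹)).mp hD
  have hya : g * y * g⁻¹ * aEl C = aEl C * (g * y * g⁻¹) := by
    have hcs := aEl_comm C hc hmem hac s'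
    rcases hs' with h | h
    · rw [h]; exact hcs.symm
    · rw [h, mul_assoc, ← hcs]
  have hordy : orderOf (g * y * g⁻¹) = orderOf y := by
    rw [← MulAut.conj_apply, MulEquiv.orderOf_eq]
  have hy1' : g * y * g⁻¹ ≠ 1 := by
    intro h
    rw [h, orderOf_one] at hordy
    exact hn1 hordy.symm
  have hyodd : Odd (orderOf y) := Odd.of_dvd_nat hNodd hyd
  obtain ⟨t, ht, ht1, htd⟩ := hlift _ hy1' (by rw [hordy]; exact hyodd) hya
  rw [hordy] at htd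
  exact ⟨g, t, ht.symm, ht1, Odd.of_dvd_nat hyodd htd, (htd.trans hyd).trans hN4⟩

/-- The statement, verbatim. -/
example (C : Ctx K (3 ^ m)) (hc : CommStmt (K := K)) (hmem : MemStmt C)
    (hac : ACommStmt C) (hdm : StDMem C hc hmem) (hlift : StLift C hc hmem)
    (hcore : StCoreB' C hc hmem) (h1 : StConjPsi1 C hc hmem) :
    ∀ y : ↥(twistedG2 K (3 ^ m)), y ≠ 1 → orderOf y ∣ (3 ^ (2 * m + 1) + 1) / 4 →
    ∃ (g : ↥(twistedG2 K (3 ^ m))) (t : SpecialLinearGroup (Fin 2) K),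
      g * y * g⁻¹ = psiG C hc hmem t ∧ t ≠ 1 ∧ Odd (orderOf t) ∧
        orderOf t ∣ 3 ^ (2 * m + 1) + 1 := conjPsi C hc hmem hac hdm hlift hcore h1

end Cfsg.Agent.H37.RT
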