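import Mathlib
import Cfsg.Agent.H7.RTDefs

set_option autoImplicit false
set_option linter.style.haveILetI false

/-!
# Team project S2359 (helper7): the piece H3 (helper37)
-/

namespace Cfsg.Agent.H37.RT

open Cfsg Cfsg.Lie Cfsg.Agent.H22 Cfsg.Agent.H22.GEx Cfsg.Agent.H22.Ree Cfsg.Agent.H45.R2
  Cfsg.Agent.H7.RC Cfsg.Agent.H7.RT Matrix

universe u

variable {K : Type u} [Field K] [CharP K 3] {m : ℕ}

/-- Conjugation preserves commutation. -/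
theorem conj_comm_h3 {G : Type*} [Group G] (g : G) {y z : G} (h : y * z = z * y) :
    g * y * g⁻¹ * (g * z * g⁻¹) = g * z * g⁻¹ * (g * y * g⁻¹) := by
  calc g * y * g⁻¹ * (g * z * g⁻¹) = g * (y * z) * g⁻¹ := by group
    _ = g * (z * y) * g⁻¹ := by rw [h]
    _ = g * z * g⁻¹ * (g * y * g⁻¹) := by group

/-- (H3). -/
theorem h3 (C : Ctx K (3 ^ m)) (hc : CommStmt (K := K)) (hmem : MemStmt C)
    (hinv : ∀ u v : ↥(twistedG2 K (3 ^ m)), u ≠ 1 → u * u = 1 → v ≠ 1 → v * v = 1 →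
      ∃ g, g * u * g⁻¹ = v)
    (hlift : StLift C hc hmem) (hdab : StDAb C hc hmem) (hdc : StDCent C hc hmem) :
    StH3 C hc hmem := by
  intro t ht1 htodd htd v hv1 hvv hvt y₁ y₂ hy₁t hy₁v hy₂t hy₂v
  obtain ⟨g, hg⟩ := hinv v (aEl C) hv1 hvv (aEl_ne_one C) (aEl_mul_self C)
  -- it suffices to show that the conjugates commute
  have key : g * y₁ * g⁻¹ * (g * y₂ * g⁻¹) = g * y₂ * g⁻¹ * (g * y₁ * g⁻¹) → y₁ * y₂ = y₂ * y₁ := by
    intro h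
    have h2 := conj_comm_h3 g⁻¹ h
    have e1 : g⁻¹ * (g * y₁ * g⁻¹) * g⁻¹⁻¹ = y₁ := by group
    have e2 : g⁻¹ * (g * y₂ * g⁻¹) * g⁻¹⁻¹ = y₂ := by group
    rwa [e1, e2] at h2
  apply key
  have ha₁ : g * y₁ * g⁻¹ * aEl C = aEl C * (g * y₁ * g⁻¹) := by
    rw [← hg]; exact conj_comm_h3 g hy₁v
  have ha₂ : g * y₂ * g⁻¹ * aEl C = aEl C * (g * y₂ * g⁻¹) := by
    rw [← hg]; exact conj_comm_h3 g hy₂v
  have hxa : g * psiG C hc hmem t * g⁻¹ * aEl C = aEl C * (g * psiG C hc hmem t * g⁻¹) := by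
    rw [← hg]; exact (conj_comm_h3 g hvt).symm
  by_cases hx1 : g * psiG C hc hmem t * g⁻¹ = 1
  · -- degenerate case `ψ(t) = 1`
    have hψ : psiG C hc hmem t = 1 := by
      have h0 : psiG C hc hmem t = g⁻¹ * (g * psiG C hc hmem t * g⁻¹) * g := by group
      rw [h0, hx1]; group
    have hD₁ := hdc t ht1 htodd (g * y₁ * g⁻¹) (by rw [hψ, mul_one, one_mul]) ha₁
    have hD₂ := hdc t ht1 htodd (g * y₂ * g⁻¹) (by rw [hψ, mul_one, one_mul]) ha₂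
    exact (hdab t ht1 htodd htd).1 _ hD₁ _ hD₂
  · have hordψ : orderOf (psiG C hc hmem t) ∣ orderOf t := orderOf_map_dvd _ t
    have hordx : orderOf (g * psiG C hc hmem t * g⁻¹) = orderOf (psiG C hc hmem t) := by
      rw [← MulAut.conj_apply, MulEquiv.orderOf_eq]
    have hxodd : Odd (orderOf (g * psiG C hc hmem t * g⁻¹)) := by
      rw [hordx]; exact Odd.of_dvd_nat htodd hordψ
    obtain ⟨t', ht', ht'1, ht'd⟩ := hlift _ hx1 hxodd hxa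
    have ht'dt : orderOf t' ∣ orderOf t := ht'd.trans (hordx ▸ hordψ)
    have ht'odd : Odd (orderOf t') := Odd.of_dvd_nat htodd ht'dt
    have hD₁ := hdc t' ht'1 ht'odd (g * y₁ * g⁻¹) (by rw [ht']; exact conj_comm_h3 g hy₁t) ha₁
    have hD₂ := hdc t' ht'1 ht'odd (g * y₂ * g⁻¹) (by rw [ht']; exact conj_comm_h3 g hy₂t) ha₂
    exact (hdab t' ht'1 ht'odd (ht'dt.trans htd)).1 _ hD₁ _ hD₂

/-- The statement, verbatim. -/
example (C : Ctx K (3 ^ m)) (hc : CommStmt (K := K)) (hmem : MemStmt C)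
    (hinv : ∀ u v : ↥(twistedG2 K (3 ^ m)), u ≠ 1 → u * u = 1 → v ≠ 1 → v * v = 1 →
      ∃ g, g * u * g⁻¹ = v)
    (hlift : StLift C hc hmem) (hdab : StDAb C hc hmem) (hdc : StDCent C hc hmem) :
    ∀ t : SpecialLinearGroup (Fin 2) K, t ≠ 1 → Odd (orderOf t) →
    orderOf t ∣ 3 ^ (2 * m + 1) + 1 →
    ∀ v : ↥(twistedG2 K (3 ^ m)), v ≠ 1 → v * v = 1 →
      v * psiG C hc hmem t = psiG C hc hmem t * v →
      ∀ y₁ y₂ : ↥(twistedG2 K (3 ^ m)), y₁ * psiG C hc hmem t = psiG C hc hmem t * y₁ →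
        y₁ * v = v * y₁ → y₂ * psiG C hc hmem t = psiG C hc hmem t * y₂ → y₂ * v = v * y₂ →
        y₁ * y₂ = y₂ * y₁ := h3 C hc hmem hinv hlift hdab hdc

end Cfsg.Agent.H37.RT
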