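import Mathlib
import Cfsg.Agent.H7.RTDefs0

set_option autoImplicit false

/-!
# Team project S2359 (helper7): the generic piece TWOBOUND (helper37)
-/

namespace Cfsg.Agent.H37.RT

open Cfsg.Agent.H7.RT Subgroup

universe u

/-- (TWOBOUND). -/
theorem twoBound : StTwoBound.{u} := by
  intro G _ _ hS8 hCS x hx1 hxodd T hTx hT2
  obtain ⟨S, hTS⟩ := hT2.exists_le_sylow
  have hdvd : Nat.card T ∣ 8 := (hS8 S) ▸ Subgroup.card_dvd_of_le hTS
  have hle8 : Nat.card T ≤ 8 := Nat.le_of_dvd (by norm_num) hdvd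
  by_contra hgt
  have h8 : Nat.card T = 8 := by
    have h5 : 4 < Nat.card T := not_le.mp hgt
    interval_cases h : Nat.card T <;> first | rfl | omega
  have hTeq : T = (S : Subgroup G) := Subgroup.eq_of_le_of_card_ge hTS (by rw [hS8 S, h8])
  have hxS : x ∈ (S : Subgroup G) := by
    rw [← hCS S, Subgroup.mem_centralizer_iff]
    intro y hy
    rw [← hTeq] at hy
    exact hTx y hy
  have hord : orderOf x ∣ 8 := by
    have := Subgroup.orderOf_dvd_natCard (S : Subgroup G) hxS
    rwa [hS8 S] at this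
  have h1 : orderOf x = 1 := by
    have hle : orderOf x ≤ 8 := Nat.le_of_dvd (by norm_num) hord
    obtain ⟨k, hk⟩ := hxodd
    interval_cases h : orderOf x <;> first | rfl | omega
  exact hx1 (orderOf_eq_one_iff.mp h1)

/-- The statement, verbatim. -/
example : ∀ (G : Type u) [Group G] [Finite G],
    (∀ S : Sylow 2 G, Nat.card S = 8) →
    (∀ S : Sylow 2 G, Subgroup.centralizer ((S : Subgroup G) : Set G) = S) →
    ∀ x : G, x ≠ 1 → Odd (orderOf x) →
    ∀ T : Subgroup G, (∀ y ∈ T, y * x = x * y) → IsPGroup 2 T → Nat.card T ≤ 4 := twoBound.{u}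

end Cfsg.Agent.H37.RT
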