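import Mathlib
import Cfsg.Agent.H52.SmDefs

/-!
# SM-CV (for S2772): the normal closure `V` of `Z(S)` in `M` has `C_M(V) ≤ Q`
-/

set_option autoImplicit false

namespace Cfsg.Agent.H37.Sm

universe u

/-- A nontrivial normal subgroup of `D_q` (`q` an odd prime) contains every rotation. -/
theorem dih_normal_rot (q : ℕ) (hq : q.Prime) (hq2 : q ≠ 2) (N : Subgroup (DihedralGroup q))
    (hN : N.Normal) (hne : ∃ d ∈ N, d ≠ 1) : ∀ i : ZMod q, DihedralGroup.r i ∈ N := by
  have : Fact q.Prime := ⟨hq⟩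
  have key : ∀ i : ZMod q, i ≠ 0 → DihedralGroup.r i ∈ N →
      ∀ j : ZMod q, DihedralGroup.r j ∈ N := by
    intro i hi hiN j
    have h1 : DihedralGroup.r j = (DihedralGroup.r i) ^ (i⁻¹ * j).val := by
      rw [DihedralGroup.r_pow, ZMod.natCast_zmod_val, ← mul_assoc, mul_inv_cancel₀ hi, one_mul]
    rw [h1]
    exact N.pow_mem hiN _
  obtain ⟨d, hdN, hd1⟩ := hne
  rcases d with i | i
  · apply key i _ hdN
    rintro rfl
    exact hd1 DihedralGroup.r_zero
  · have h1 : DihedralGroup.r 1 * DihedralGroup.sr i * (DihedralGroup.r 1)⁻¹ ∈ N :=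
      hN.conj_mem _ hdN _
    have h2 := N.mul_mem hdN h1
    have h3 : DihedralGroup.sr i * (DihedralGroup.r 1 * DihedralGroup.sr i *
        (DihedralGroup.r 1)⁻¹) = DihedralGroup.r (-2) := by
      rw [DihedralGroup.inv_r, DihedralGroup.r_mul_sr, DihedralGroup.sr_mul_r,
        DihedralGroup.sr_mul_sr]
      congr 1
      ring
    rw [h3] at h2
    apply key (-2) _ h2
    intro h
    have h' : ((2 : ℕ) : ZMod q) = 0 := by
      have h2' : (2 : ZMod q) = 0 := by rw [← neg_eq_zero]; exact h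
      exact_mod_cast h2'
    rw [ZMod.natCast_eq_zero_iff] at h'
    exact hq2 ((Nat.prime_dvd_prime_iff_eq hq Nat.prime_two).mp h')

theorem cV : Cfsg.Agent.H52.Sm.StCV.{u} := by
  intro H _ _ M Q S t q hyp
  classical
  obtain ⟨f, hfs, hfk⟩ := hyp.dih
  have : Fact q.Prime := ⟨hyp.qp⟩
  -- `Z = Z(S)`
  obtain ⟨Z, hZdef⟩ : ∃ Z : Subgroup H, Z = S ⊓ Subgroup.centralizer (S : Set H) := ⟨_, rfl⟩
  have hZS : Z ≤ S := by rw [hZdef]; exact inf_le_left
  have hZc : ∀ z ∈ Z, ∀ s ∈ S, s * z = z * s := by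
    intro z hz s hs
    rw [hZdef, Subgroup.mem_inf] at hz
    exact (Subgroup.mem_centralizer_iff.mp hz.2) s hs
  have hZQ : Z ≤ Q := by
    intro z hz
    apply hyp.cent z (hyp.SM (hZS hz))
    intro y hy
    exact (hZc z hz y (hyp.QS hy)).symm
  -- `V`
  obtain ⟨V, hVdef⟩ : ∃ V : Subgroup H,
      V = Subgroup.closure {h : H | ∃ m ∈ M, ∃ z ∈ Z, h = m * z * m⁻¹} := ⟨_, rfl⟩
  have hgen : ∀ m ∈ M, ∀ z ∈ Z, m * z * m⁻¹ ∈ V := by
    intro m hm z hz
    rw [hVdef]
    exact Subgroup.subset_closure ⟨m, hm, z, hz, rfl⟩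
  have hVle : ∀ T : Subgroup H, (∀ m ∈ M, ∀ z ∈ Z, m * z * m⁻¹ ∈ T) → V ≤ T := by
    intro T hT
    rw [hVdef, Subgroup.closure_le]
    rintro h ⟨m, hm, z, hz, rfl⟩
    exact hT m hm z hz
  have hZV : Z ≤ V := by
    intro z hz
    have h1 := hgen 1 M.one_mem z hz
    have h2 : (1 : H) * z * 1⁻¹ = z := by group
    rw [h2] at h1
    exact h1
  have hVQ : V ≤ Q := hVle Q (fun m hm z hz => hyp.Qn m hm z (hZQ hz))
  have hVc : ∀ v ∈ V, ∀ x ∈ Q, v * x = x * v := by
    have hle : V ≤ Subgroup.centralizer (Q : Set H) := by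
      apply hVle
      intro m hm z hz
      rw [Subgroup.mem_centralizer_iff]
      intro x hx
      have hx' : m⁻¹ * x * m ∈ Q := by
        have h1 := hyp.Qn m⁻¹ (M.inv_mem hm) x hx
        rw [inv_inv] at h1
        exact h1
      have h1 := hZc z hz _ (hyp.QS hx')
      calc x * (m * z * m⁻¹) = m * ((m⁻¹ * x * m) * z) * m⁻¹ := by group
        _ = m * (z * (m⁻¹ * x * m)) * m⁻¹ := by rw [h1]
        _ = m * z * m⁻¹ * x := by group
    intro v hv x hx
    exact ((Subgroup.mem_centralizer_iff.mp (hle hv)) x hx).symm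
  have hVM : ∀ m ∈ M, ∀ v ∈ V, m * v * m⁻¹ ∈ V := by
    intro m hm v hv
    let T : Subgroup H :=
      { carrier := {v | m * v * m⁻¹ ∈ V}
        mul_mem' := fun {a b} ha hb => by
          show m * (a * b) * m⁻¹ ∈ V
          have h1 : m * (a * b) * m⁻¹ = (m * a * m⁻¹) * (m * b * m⁻¹) := by group
          rw [h1]; exact V.mul_mem ha hb
        one_mem' := by
          show m * 1 * m⁻¹ ∈ V
          have h1 : m * 1 * m⁻¹ = (1 : H) := by group
          rw [h1]; exact V.one_mem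
        inv_mem' := fun {a} ha => by
          show m * a⁻¹ * m⁻¹ ∈ V
          have h1 : m * a⁻¹ * m⁻¹ = (m * a * m⁻¹)⁻¹ := by group
          rw [h1]; exact V.inv_mem ha }
    have hT : V ≤ T := by
      apply hVle
      intro m' hm' z hz
      show m * (m' * z * m'⁻¹) * m⁻¹ ∈ V
      have h1 : m * (m' * z * m'⁻¹) * m⁻¹ = (m * m') * z * (m * m')⁻¹ := by group
      rw [h1]
      exact hgen _ (M.mul_mem hm hm') z hz
    exact hT hv
  refine ⟨V, hVQ, hVc, hVM, ?_⟩
  intro m0 hm0 hm0c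
  by_contra hm0Q
  -- the centralizer of `V` in `M`
  obtain ⟨C', hC'def⟩ : ∃ C' : Subgroup ↥M,
      C' = (Subgroup.centralizer (V : Set H)).subgroupOf M := ⟨_, rfl⟩
  have hC'mem : ∀ c : ↥M, c ∈ C' ↔ ∀ v ∈ V, (c : H) * v = v * c := by
    intro c
    rw [hC'def, Subgroup.mem_subgroupOf, Subgroup.mem_centralizer_iff]
    constructor
    · intro h v hv; exact (h v hv).symm
    · intro h v hv; exact (h v hv).symm
  have hC'n : C'.Normal := by
    constructor
    intro c hc m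
    rw [hC'mem] at hc ⊢
    intro v hv
    have hv' : (m : H)⁻¹ * v * (m : H) ∈ V := by
      have h1 := hVM (m : H)⁻¹ (M.inv_mem m.2) v hv
      rw [inv_inv] at h1
      exact h1
    have h1 := hc _ hv'
    show (m : H) * (c : H) * (m : H)⁻¹ * v = v * ((m : H) * (c : H) * (m : H)⁻¹)
    calc (m : H) * (c : H) * (m : H)⁻¹ * v
        = (m : H) * ((c : H) * ((m : H)⁻¹ * v * (m : H))) * (m : H)⁻¹ := by group
      _ = (m : H) * (((m : H)⁻¹ * v * (m : H)) * (c : H)) * (m : H)⁻¹ := by rw [h1]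
      _ = v * ((m : H) * (c : H) * (m : H)⁻¹) := by group
  have hNn : (C'.map f).Normal := hC'n.map f hfs
  have hrot := dih_normal_rot q hyp.qp hyp.q2 (C'.map f) hNn
    ⟨f ⟨m0, hm0⟩, Subgroup.mem_map_of_mem f ((hC'mem _).mpr hm0c),
      fun h => hm0Q ((hfk _).mp h)⟩
  have hrotcase : ∀ m : ↥M, ∀ j : ZMod q, f m = DihedralGroup.r j →
      ∀ v ∈ V, (m : H) * v = v * m := by
    intro m j hj v hv
    obtain ⟨c, hc, hcj⟩ := Subgroup.mem_map.mp (hrot j)
    have h1 : f (c⁻¹ * m) = 1 := by rw [map_mul, map_inv, hcj, hj]; group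
    have h2 : ((c⁻¹ * m : ↥M) : H) ∈ Q := (hfk _).mp h1
    have h3 : (c : H)⁻¹ * (m : H) ∈ Q := h2
    have h4 := hVc v hv _ h3
    have h5 := (hC'mem c).mp hc v hv
    calc (m : H) * v = (c : H) * (((c : H)⁻¹ * (m : H)) * v) := by group
      _ = (c : H) * (v * ((c : H)⁻¹ * (m : H))) := by rw [h4]
      _ = ((c : H) * v) * ((c : H)⁻¹ * (m : H)) := by group
      _ = (v * (c : H)) * ((c : H)⁻¹ * (m : H)) := by rw [h5]
      _ = v * m := by group
  -- a reflection in `f(S)`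
  obtain ⟨s, hsS, hsQ⟩ : ∃ s ∈ S, s ∉ Q := by
    by_contra hcon
    have hSQ : S ≤ Q := by
      intro s hs
      by_contra hsQ
      exact hcon ⟨s, hs, hsQ⟩
    have heq : S = Q := le_antisymm hSQ hyp.QS
    have hcard := hyp.card
    rw [heq] at hcard
    have hpos : 0 < Nat.card Q := Nat.card_pos
    omega
  obtain ⟨i, hi⟩ : ∃ i : ZMod q, f ⟨s, hyp.SM hsS⟩ = DihedralGroup.sr i := by
    rcases hfs' : f ⟨s, hyp.SM hsS⟩ with j | j
    · exfalso
      obtain ⟨k, hk⟩ := hyp.S2 ⟨s, hsS⟩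
      have hk' : s ^ 2 ^ k = 1 := congrArg Subtype.val hk
      have h1 : (f ⟨s, hyp.SM hsS⟩) ^ 2 ^ k = 1 := by
        rw [← map_pow]
        have h0 : (⟨s, hyp.SM hsS⟩ : ↥M) ^ 2 ^ k = 1 := by
          apply Subtype.ext
          exact hk'
        rw [h0, map_one]
      rw [hfs', DihedralGroup.r_pow, DihedralGroup.one_def] at h1
      have h2 : j * ((2 ^ k : ℕ) : ZMod q) = 0 := DihedralGroup.r.inj h1
      have h3 : ((2 ^ k : ℕ) : ZMod q) ≠ 0 := by
        rw [Ne, ZMod.natCast_eq_zero_iff]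
        intro hdvd
        have hd2 : q ∣ 2 := hyp.qp.dvd_of_dvd_pow hdvd
        exact hyp.q2 ((Nat.prime_dvd_prime_iff_eq hyp.qp Nat.prime_two).mp hd2)
      have h4 : j = 0 := by
        rcases mul_eq_zero.mp h2 with h | h
        · exact h
        · exact absurd h h3
      apply hsQ
      apply (hfk ⟨s, hyp.SM hsS⟩).mp
      rw [hfs', h4]
      exact DihedralGroup.r_zero
    · exact ⟨j, rfl⟩
  have hMZ : ∀ m ∈ M, ∀ z ∈ Z, m * z = z * m := by
    intro m hm z hz
    rcases hfm : f ⟨m, hm⟩ with j | j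
    · exact hrotcase ⟨m, hm⟩ j hfm z (hZV hz)
    · have h1 : f (⟨m, hm⟩ * ⟨s, hyp.SM hsS⟩) = DihedralGroup.r (i - j) := by
        rw [map_mul, hfm, hi, DihedralGroup.sr_mul_sr]
      have h2 := hrotcase (⟨m, hm⟩ * ⟨s, hyp.SM hsS⟩) (i - j) h1 z (hZV hz)
      have h3 : m * s * z = z * (m * s) := h2
      have h4 := hZc z hz s hsS
      calc m * z = m * (z * s) * s⁻¹ := by group
        _ = m * (s * z) * s⁻¹ := by rw [h4]
        _ = (m * s * z) * s⁻¹ := by group
        _ = (z * (m * s)) * s⁻¹ := by rw [h3]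
        _ = z * m := by group
  -- `Z` is `t`-invariant
  have htZ : ∀ z ∈ Z, t * z * t⁻¹ ∈ Z := by
    intro z hz
    rw [hZdef, Subgroup.mem_inf]
    refine ⟨hyp.tS z (hZS hz), ?_⟩
    rw [Subgroup.mem_centralizer_iff]
    intro s' hs'
    have hinj : Function.Injective (fun a : S => (⟨t * a * t⁻¹, hyp.tS a a.2⟩ : S)) := by
      intro a b hab
      have h' : t * (a : H) * t⁻¹ = t * (b : H) * t⁻¹ := congrArg Subtype.val hab
      apply Subtype.ext
      calc (a : H) = t⁻¹ * (t * (a : H) * t⁻¹) * t := by group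
        _ = t⁻¹ * (t * (b : H) * t⁻¹) * t := by rw [h']
        _ = b := by group
    obtain ⟨a, ha⟩ := Finite.surjective_of_injective hinj ⟨s', hs'⟩
    have ha' : t * (a : H) * t⁻¹ = s' := congrArg Subtype.val ha
    have h1 := hZc z hz a a.2
    rw [← ha']
    calc t * (a : H) * t⁻¹ * (t * z * t⁻¹) = t * ((a : H) * z) * t⁻¹ := by group
      _ = t * (z * (a : H)) * t⁻¹ := by rw [h1]
      _ = t * z * t⁻¹ * (t * (a : H) * t⁻¹) := by group
  have hZbot : Z = ⊥ := by
    apply hyp.star Z hZS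
    · intro m hm z hz
      have h1 := hMZ m hm z hz
      have h' : m * z * m⁻¹ = z := by rw [h1]; group
      rw [h']; exact hz
    · exact htZ
  -- contradiction: the center of the nontrivial 2-group `S` is nontrivial
  have : Fact (Nat.Prime 2) := ⟨Nat.prime_two⟩
  have : Nontrivial S := by
    refine ⟨⟨⟨s, hsS⟩, 1, ?_⟩⟩
    intro h
    have h1 : s = 1 := congrArg Subtype.val h
    exact hsQ (h1 ▸ Q.one_mem)
  have := hyp.S2.center_nontrivial
  obtain ⟨z, hz1⟩ := exists_ne (1 : Subgroup.center S)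
  have hzZ : ((z : S) : H) ∈ Z := by
    rw [hZdef, Subgroup.mem_inf]
    refine ⟨(z : S).2, ?_⟩
    rw [Subgroup.mem_centralizer_iff]
    intro h hh
    have h1 := Subgroup.mem_center_iff.mp z.2 ⟨h, hh⟩
    exact congrArg Subtype.val h1
  rw [hZbot, Subgroup.mem_bot] at hzZ
  apply hz1
  apply Subtype.ext
  apply Subtype.ext
  exact hzZ

example : Cfsg.Agent.H52.Sm.StCV.{u} := Cfsg.Agent.H37.Sm.cV

end Cfsg.Agent.H37.Sm
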