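import Cfsg.Agent.H37.SpDefs
import Cfsg.Agent.H52.SoAsm

/-!
# S2944: assembly of the pieces
-/

set_option autoImplicit false
open Cfsg

namespace Cfsg.Agent.H37.Sp

open Cfsg.Agent.H52.Sn

universe u

/-- An element of the normalizer fixes the subgroup under conjugation. -/
theorem map_conj_of_mem_normalizer {G : Type u} [Group G] (H : Subgroup G) (n : G)
    (hn : n ∈ Subgroup.normalizer (H : Set G)) : H.map (MulAut.conj n).toMonoidHom = H := by
  rw [Subgroup.mem_normalizer_iff] at hn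
  apply le_antisymm
  · rintro _ ⟨k, hk, rfl⟩
    exact (hn k).mp hk
  · intro h hh
    refine ⟨n⁻¹ * h * n, ?_, ?_⟩
    · refine (hn _).mpr ?_
      have e : n * (n⁻¹ * h * n) * n⁻¹ = h := by group
      rw [e]
      exact hh
    · show n * (n⁻¹ * h * n) * n⁻¹ = h
      group

/-- Conversely. -/
theorem mem_normalizer_of_map_conj {G : Type u} [Group G] (H : Subgroup G) (n : G)
    (hn : H.map (MulAut.conj n).toMonoidHom = H) : n ∈ Subgroup.normalizer (H : Set G) := by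
  rw [Subgroup.mem_normalizer_iff]
  intro h
  constructor
  · intro hh
    rw [← hn]
    exact ⟨h, hh, rfl⟩
  · intro hh
    rw [← hn] at hh
    obtain ⟨k, hk, hke⟩ := hh
    have e : k = h := by
      have h2 : n * k * n⁻¹ = n * h * n⁻¹ := hke
      exact mul_left_cancel (mul_right_cancel h2)
    rw [← e]
    exact hk

/-- S2944 from the pieces. -/
theorem main4 (hGL : StGL.{u}) (hRed : StRed.{u}) (hA : StFinA.{u})
    (hSyl : StIfSyl.{u}) (hV : StIfV.{u}) (hZ : StIfZ.{u}) (hS : StIfS.{u}) (hK : StIfK.{u})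
    (hN : StIfN.{u}) (hNC : StNC.{u}) (hWid : StWid.{u})
    (hGLQ : StGLQ.{u}) (hCQ : StCQ.{u}) (hAbs2 : StAbs2.{u}) (hSetup : StSetup.{u})
    (hWC : StWConj.{u}) (hJC : StJConj.{u}) (hOC : StOvConj.{u}) (hSJ : StSylJ.{u}) :
    StMain4.{u} := by
  intro G _ _ hL hNsol hZN T hT hT1 K hK0
  obtain ⟨S, hS2, hS1, hJS, hNS, hKS, hKN⟩ := hSetup hL T K hT hK0
  obtain ⟨N, hNdef⟩ : ∃ N : Subgroup G, N = Subgroup.normalizer (wOf K : Set G) := ⟨_, rfl⟩
  rw [← hNdef] at hNS hKN ⊢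
  have key : ∀ n ∈ N, K.map (MulAut.conj n).toMonoidHom = K := by
    intro n hn
    have hn' : n ∈ Subgroup.normalizer (wOf K : Set G) := hNdef ▸ hn
    have hK2c := hJC S K n hKS
    have hN2 := hOC S N n hn hNS
    have hS22 : IsPGroup 2 ↥(S.map (MulAut.conj n).toMonoidHom) := hS2.map _
    have hS21 : S.map (MulAut.conj n).toMonoidHom ≠ ⊥ := by
      intro h
      apply hS1
      rwa [Subgroup.map_eq_bot_iff_of_injective _ (MulAut.conj n).injective] at h
    have hK2N : K.map (MulAut.conj n).toMonoidHom ≤ N := by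
      rintro _ ⟨k, hk, rfl⟩
      exact N.mul_mem (N.mul_mem hn (hKN hk)) (N.inv_mem hn)
    have F1 := facts hGL hRed hSyl hV hZ hS hK hN hL hNsol hZN S hS2 hS1 N hNS K hKS hKN
    have F2 := facts hGL hRed hSyl hV hZ hS hK hN hL hNsol hZN _ hS22 hS21 N hN2 _ hK2c hK2N
    have hO1 := (hA _ _ _ _ _ _ _ F1.hT F1.hTi F1.hC F1.hQ F1.hM F1.hTC F1.hJM F1.hcomm F1.hKgen
      F1.hKJ F1.hOK F1.hO).1
    have hO2 := (hA _ _ _ _ _ _ _ F2.hT F2.hTi F2.hC F2.hQ F2.hM F2.hTC F2.hJM F2.hcomm F2.hKgen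
      F2.hKJ F2.hOK F2.hO).1
    have hnc1 := hNC _ _ _ _ _ _ _ F1
    have hnc2 := hNC _ _ _ _ _ _ _ F2
    have hw1 := hWid S N K _ hKS hKN F1 hO1 hnc1
    have hw2 := hWid _ N _ _ hK2c hK2N F2 hO2 hnc2
    obtain ⟨hT2, hTi, -, -⟩ := hSyl S N hNS.1
    obtain ⟨hVn, hVel, hQV⟩ := hV N
    have hCT := hZ hZN S N hNS
    have hPS := hS hNsol S N hS1 hNS
    obtain ⟨hred1, -⟩ := hRed (S.subgroupOf N) ((omegaCenterOf (pCoreOf 2 N)).subgroupOf N)
      hT2 hTi hQV hCT
    obtain ⟨hcq1, hcq2⟩ := hCQ _ _ _ F1.hT F1.hTi F1.hC F1.hQ F1.hQ2 F1.hTC F1.hCT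
    have hcommQ := hGLQ ((omegaCenterOf (pCoreOf 2 N)).subgroupOf N) _ hVel hPS hred1 F1.hQ hQV
      hcq1 hcq2
    have hc1 : Nat.card ↥⁅(omegaCenterOf (pCoreOf 2 N)).subgroupOf N, K.subgroupOf N⁆ = 4 := by
      rw [← hKS.2.2.2.2.1, ← hw1]
      exact Nat.card_congr (Subgroup.equivMapOfInjective _ _ (Subgroup.subtype_injective N)).toEquiv
    have hc2 : Nat.card ↥⁅(omegaCenterOf (pCoreOf 2 N)).subgroupOf N,
        (K.map (MulAut.conj n).toMonoidHom).subgroupOf N⁆ = 4 := by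
      rw [← hK2c.2.2.2.2.1, ← hw2]
      exact Nat.card_congr (Subgroup.equivMapOfInjective _ _ (Subgroup.subtype_injective N)).toEquiv
    have hWW : wOf (K.map (MulAut.conj n).toMonoidHom) = wOf K := by
      rw [hWC K n]
      exact map_conj_of_mem_normalizer _ n hn'
    have hcc : ⁅(omegaCenterOf (pCoreOf 2 N)).subgroupOf N, K.subgroupOf N⁆ =
        ⁅(omegaCenterOf (pCoreOf 2 N)).subgroupOf N,
          (K.map (MulAut.conj n).toMonoidHom).subgroupOf N⁆ := by
      apply Subgroup.map_injective (Subgroup.subtype_injective N)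
      rw [hw1, hw2, hWW]
    have hinf : ⁅(omegaCenterOf (pCoreOf 2 N)).subgroupOf N, K.subgroupOf N⁆ ⊓
        ⁅(omegaCenterOf (pCoreOf 2 N)).subgroupOf N,
          (K.map (MulAut.conj n).toMonoidHom).subgroupOf N⁆ ≠ ⊥ := by
      rw [← hcc, inf_idem]
      intro hbot
      rw [hbot] at hc1
      simp at hc1
    have := hVn
    have heq := hAbs2 ((omegaCenterOf (pCoreOf 2 N)).subgroupOf N) _ _ _ _ _ _ _ _ _ _ hVel F1 F2
      hcommQ hc1 hc2 hinf
    have h1 := congrArg (Subgroup.map N.subtype) heq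
    rw [Subgroup.subgroupOf_map_subtype, Subgroup.subgroupOf_map_subtype,
      inf_of_le_left hKN, inf_of_le_left hK2N] at h1
    exact h1.symm
  have hnorm : Subgroup.normalizer (K : Set G) = N := by
    apply le_antisymm
    · intro n hn
      rw [hNdef]
      apply mem_normalizer_of_map_conj
      rw [← hWC K n, map_conj_of_mem_normalizer K n hn]
    · intro n hn
      exact mem_normalizer_of_map_conj K n (key n hn)
  refine ⟨hnorm, ?_⟩
  intro g hg
  obtain ⟨m, hm, hJm⟩ := hSJ T S N g hT hNS.1 hJS hg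
  have h1 := hJC S K m hKS
  rw [key m hm] at h1
  unfold IsJComponent at h1 ⊢
  rw [hJm]
  exact h1

end Cfsg.Agent.H37.Sp
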