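import Cfsg.Agent.H42.SqDefs

/-!
# SQ-CNT (for helper42's S2945): the counting argument

`A` an elementary abelian 2-group normalizing the elementary abelian 2-group `V`; `K` acts on
`V` as a group of order 3 with `W = [V, K]` of order 4 and commutes modulo `C(V)` with its
`A`-conjugates; `A` is "maximal" against the subgroups `V' B'`.  Then `A` normalizes `W`.
-/

set_option autoImplicit false
open Cfsg
open scoped commutatorElement

namespace Cfsg.Agent.H37.Sq

open Cfsg.Agent.H42.Sq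

universe u

variable {G : Type u} [Group G]

/-- Two subgroups meeting trivially: the product map is injective. -/
theorem card_mul_le_card_sup [Finite G] (P Q : Subgroup G) (h : P ⊓ Q = ⊥) :
    Nat.card ↥P * Nat.card ↥Q ≤ Nat.card ↥(P ⊔ Q) := by
  rw [← Nat.card_prod]
  apply Nat.card_le_card_of_injective (fun p : ↥P × ↥Q =>
    (⟨(p.1 : G) * (p.2 : G), Subgroup.mul_mem _ (le_sup_left (a := P) (b := Q) p.1.2)
      (le_sup_right (a := P) (b := Q) p.2.2)⟩ : ↥(P ⊔ Q)))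
  rintro ⟨p, q⟩ ⟨p', q'⟩ hpq
  have e : (p : G) * q = p' * q' := congrArg Subtype.val hpq
  have h1 : (p' : G)⁻¹ * p = q' * (q : G)⁻¹ := by
    have : (p' : G)⁻¹ * ((p : G) * q) * (q : G)⁻¹ = (p' : G)⁻¹ * ((p' : G) * q') * (q : G)⁻¹ := by
      rw [e]
    simpa [mul_assoc] using this
  have h2 : (p' : G)⁻¹ * p ∈ P ⊓ Q :=
    ⟨P.mul_mem (P.inv_mem p'.2) p.2, h1 ▸ Q.mul_mem q'.2 (Q.inv_mem q.2)⟩
  rw [h, Subgroup.mem_bot] at h2
  have h3 : (q' : G) * (q : G)⁻¹ = 1 := by rw [← h1, h2]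
  have ep : (p : G) = p' := by
    have := congrArg (fun t => (p' : G) * t) h2
    simpa using this
  have eq : (q : G) = q' := by
    have := congrArg (fun t => t * (q : G)) h3
    simpa using this.symm
  exact Prod.ext (Subtype.ext ep) (Subtype.ext eq)

/-- Elements of the join of two elementwise commuting subgroups are products. -/
theorem mem_sup_of_commute (P Q : Subgroup G) (hc : ∀ p ∈ P, ∀ q ∈ Q, p * q = q * p) {x : G}
    (hx : x ∈ P ⊔ Q) : ∃ p ∈ P, ∃ q ∈ Q, x = p * q := by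
  have key : P ⊔ Q ≤
      { carrier := {x | ∃ p ∈ P, ∃ q ∈ Q, x = p * q}
        mul_mem' := by
          rintro _ _ ⟨p, hp, q, hq, rfl⟩ ⟨p', hp', q', hq', rfl⟩
          refine ⟨p * p', P.mul_mem hp hp', q * q', Q.mul_mem hq hq', ?_⟩
          have := hc p' hp' q hq
          calc p * q * (p' * q') = p * (q * p') * q' := by group
            _ = p * (p' * q) * q' := by rw [this]
            _ = p * p' * (q * q') := by group
        one_mem' := ⟨1, P.one_mem, 1, Q.one_mem, by simp⟩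
        inv_mem' := by
          rintro _ ⟨p, hp, q, hq, rfl⟩
          refine ⟨p⁻¹, P.inv_mem hp, q⁻¹, Q.inv_mem hq, ?_⟩
          have := hc p⁻¹ (P.inv_mem hp) q⁻¹ (Q.inv_mem hq)
          rw [mul_inv_rev, this] } := by
    apply sup_le
    · intro p hp
      exact ⟨p, hp, 1, Q.one_mem, by simp⟩
    · intro q hq
      exact ⟨1, P.one_mem, q, hq, by simp⟩
  exact key hx

/-- Commuting involutory automorphisms of a four-group: the second one acts trivially or as the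
first one. -/
theorem four_aut [Finite G] (W : Subgroup G) (hW4 : Nat.card ↥W = 4) (hW2 : ∀ w ∈ W, w * w = 1)
    (a₁ a₂ : G) (h₁ : ∀ w ∈ W, a₁ * w * a₁⁻¹ ∈ W) (h₂ : ∀ w ∈ W, a₂ * w * a₂⁻¹ ∈ W)
    (h11 : a₁ * a₁ = 1) (hc : a₁ * a₂ = a₂ * a₁) (hmove : ∃ w ∈ W, a₁ * w * a₁⁻¹ ≠ w) :
    (∀ w ∈ W, a₂ * w * a₂⁻¹ = w) ∨ (∀ w ∈ W, a₂ * w * a₂⁻¹ = a₁ * w * a₁⁻¹) := by
  classical
  obtain ⟨w₀, hw₀, hmv⟩ := hmove
  have ha1inv : a₁⁻¹ = a₁ := inv_eq_of_mul_eq_one_left h11
  have hcommW : ∀ x ∈ W, ∀ y ∈ W, x * y = y * x := by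
    intro x hx y hy
    have h1 := hW2 (x * y) (W.mul_mem hx hy)
    have h2 := hW2 x hx
    have h3 := hW2 y hy
    have : x * y = (x * y)⁻¹ := eq_inv_of_mul_eq_one_left h1
    rw [this, mul_inv_rev, inv_eq_of_mul_eq_one_left h3, inv_eq_of_mul_eq_one_left h2]
  obtain ⟨w', hw'def⟩ : ∃ w', w' = a₁ * w₀ * a₁⁻¹ := ⟨_, rfl⟩
  have hw' : w' ∈ W := hw'def ▸ h₁ w₀ hw₀
  have hw'ne : w' ≠ w₀ := hw'def ▸ hmv
  have hback : a₁ * w' * a₁⁻¹ = w₀ := by
    rw [hw'def, ha1inv]
    calc a₁ * (a₁ * w₀ * a₁) * a₁ = (a₁ * a₁) * w₀ * (a₁ * a₁) := by group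
      _ = w₀ := by rw [h11]; simp
  obtain ⟨f, hfdef⟩ : ∃ f, f = w₀ * w' := ⟨_, rfl⟩
  have hf : f ∈ W := hfdef ▸ W.mul_mem hw₀ hw'
  have hw₀1 : w₀ ≠ 1 := by
    rintro rfl
    apply hmv
    simp
  have hw'1 : w' ≠ 1 := by
    intro h
    apply hw₀1
    rw [← hback, h]
    simp
  have hf1 : f ≠ 1 := by
    intro h
    apply hw'ne
    rw [hfdef] at h
    have h2 := hW2 w₀ hw₀
    have : w' = w₀⁻¹ := (inv_eq_of_mul_eq_one_right h).symm
    rw [this, inv_eq_of_mul_eq_one_left h2]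
  have hfw₀ : f ≠ w₀ := by
    intro h
    apply hw'1
    rw [hfdef] at h
    exact mul_left_cancel (h.trans (mul_one w₀).symm)
  have hfw' : f ≠ w' := by
    intro h
    apply hw₀1
    rw [hfdef] at h
    exact mul_right_cancel (h.trans (one_mul w').symm)
  have hall : ∀ w ∈ W, w = 1 ∨ w = w₀ ∨ w = w' ∨ w = f := by
    intro w hw
    by_contra hcon
    rw [not_or, not_or, not_or] at hcon
    obtain ⟨c1, c2, c3, c4⟩ := hcon
    have : Fintype ↥W := Fintype.ofFinite _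
    have hcard : Fintype.card ↥W = 4 := by rw [← Nat.card_eq_fintype_card]; exact hW4
    have hs : ({(⟨1, W.one_mem⟩ : ↥W), ⟨w₀, hw₀⟩, ⟨w', hw'⟩, ⟨f, hf⟩, ⟨w, hw⟩} :
        Finset ↥W).card = 5 := by
      rw [Finset.card_insert_of_notMem, Finset.card_insert_of_notMem,
        Finset.card_insert_of_notMem, Finset.card_insert_of_notMem, Finset.card_singleton]
      · simp only [Finset.mem_singleton, Subtype.mk.injEq]
        exact fun h => c4 h.symm
      · simp only [Finset.mem_insert, Finset.mem_singleton, Subtype.mk.injEq, not_or]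
        exact ⟨fun h => hfw' h.symm, fun h => c3 h.symm⟩
      · simp only [Finset.mem_insert, Finset.mem_singleton, Subtype.mk.injEq, not_or]
        exact ⟨fun h => hw'ne h.symm, fun h => hfw₀ h.symm, fun h => c2 h.symm⟩
      · simp only [Finset.mem_insert, Finset.mem_singleton, Subtype.mk.injEq, not_or]
        exact ⟨fun h => hw₀1 h.symm, fun h => hw'1 h.symm, fun h => hf1 h.symm,
          fun h => c1 h.symm⟩
    have := Finset.card_le_univ ({(⟨1, W.one_mem⟩ : ↥W), ⟨w₀, hw₀⟩, ⟨w', hw'⟩, ⟨f, hf⟩,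
      ⟨w, hw⟩} : Finset ↥W)
    omega
  have hfix1 : a₁ * f * a₁⁻¹ = f := by
    rw [hfdef]
    calc a₁ * (w₀ * w') * a₁⁻¹ = (a₁ * w₀ * a₁⁻¹) * (a₁ * w' * a₁⁻¹) := by group
      _ = w' * w₀ := by rw [← hw'def, hback]
      _ = w₀ * w' := hcommW w' hw' w₀ hw₀
  have hcc : ∀ x, a₁ * (a₂ * x * a₂⁻¹) * a₁⁻¹ = a₂ * (a₁ * x * a₁⁻¹) * a₂⁻¹ := by
    intro x
    calc a₁ * (a₂ * x * a₂⁻¹) * a₁⁻¹ = (a₁ * a₂) * x * (a₁ * a₂)⁻¹ := by group
      _ = (a₂ * a₁) * x * (a₂ * a₁)⁻¹ := by rw [hc]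
      _ = a₂ * (a₁ * x * a₁⁻¹) * a₂⁻¹ := by group
  have hinj2 : ∀ x y, a₂ * x * a₂⁻¹ = a₂ * y * a₂⁻¹ → x = y := by
    intro x y h
    exact mul_left_cancel (mul_right_cancel h)
  have hfix2 : a₂ * f * a₂⁻¹ = f := by
    have hm := h₂ f hf
    have hfx : a₁ * (a₂ * f * a₂⁻¹) * a₁⁻¹ = a₂ * f * a₂⁻¹ := by rw [hcc, hfix1]
    rcases hall _ hm with h | h | h | h
    · exfalso
      apply hf1
      apply hinj2
      rw [h]; simp
    · exfalso
      rw [h] at hfx
      exact hmv hfx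
    · exfalso
      rw [h, hback] at hfx
      exact hw'ne hfx.symm
    · exact h
  have hm0 := h₂ w₀ hw₀
  rcases hall _ hm0 with h | h | h | h
  · exfalso
    apply hw₀1
    apply hinj2
    rw [h]; simp
  · left
    have h' : a₂ * w' * a₂⁻¹ = w' := by
      rw [hw'def, ← hcc, h]
    intro w hw
    rcases hall w hw with rfl | rfl | rfl | rfl
    · simp
    · exact h
    · exact h'
    · exact hfix2
  · right
    have h' : a₂ * w' * a₂⁻¹ = w₀ := by
      conv_lhs => rw [hw'def]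
      rw [← hcc, h, hback]
    intro w hw
    rcases hall w hw with rfl | rfl | rfl | rfl
    · simp
    · rw [h, hw'def]
    · rw [h', hback]
    · rw [hfix2, hfix1]
  · exfalso
    apply hfw₀
    apply hinj2
    rw [hfix2, h]

/-- An element of the normalizer fixes the subgroup under conjugation. -/
theorem map_conj_eq_self (H : Subgroup G) (n : G)
    (hn : n ∈ Subgroup.normalizer (H : Set G)) : H.map (MulAut.conj n).toMonoidHom = H := by
  rw [Subgroup.mem_normalizer_iff] at hn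
  apply le_antisymm
  · rintro _ ⟨k, hk, rfl⟩
    exact (hn k).mp hk
  · intro h hh
    refine ⟨n⁻¹ * h * n, ?_, ?_⟩
    · refine (hn _).mpr ?_
      have e : n * (n⁻¹ * h * n) * n⁻¹ = h := by group
      rw [e]
      exact hh
    · show n * (n⁻¹ * h * n) * n⁻¹ = h
      group

/-- Conversely. -/
theorem mem_normalizer_of_map_conj_eq (H : Subgroup G) (n : G)
    (hn : H.map (MulAut.conj n).toMonoidHom = H) : n ∈ Subgroup.normalizer (H : Set G) := by
  rw [Subgroup.mem_normalizer_iff]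
  intro h
  constructor
  · intro hh
    rw [← hn]
    exact ⟨h, hh, rfl⟩
  · intro hh
    rw [← hn] at hh
    obtain ⟨k, hk, hke⟩ := hh
    have e : k = h := by
      have h2 : n * k * n⁻¹ = n * h * n⁻¹ := hke
      exact mul_left_cancel (mul_right_cancel h2)
    rw [← e]
    exact hk

/-- Composition of conjugations. -/
theorem map_conj_mul' (H : Subgroup G) (a b : G) :
    H.map (MulAut.conj (a * b)).toMonoidHom =
      (H.map (MulAut.conj b).toMonoidHom).map (MulAut.conj a).toMonoidHom := by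
  ext x
  constructor
  · rintro ⟨h, hh, rfl⟩
    refine ⟨b * h * b⁻¹, ⟨h, hh, rfl⟩, ?_⟩
    show a * (b * h * b⁻¹) * a⁻¹ = a * b * h * (a * b)⁻¹
    group
  · rintro ⟨_, ⟨h, hh, rfl⟩, rfl⟩
    refine ⟨h, hh, ?_⟩
    show a * b * h * (a * b)⁻¹ = a * (b * h * b⁻¹) * a⁻¹
    group

/-- Three distinct elements. -/
theorem three_le_card [Finite G] (H : Subgroup G) (x y : G) (hx : x ∈ H) (hy : y ∈ H)
    (hx1 : x ≠ 1) (hy1 : y ≠ 1) (hxy : x ≠ y) : 3 ≤ Nat.card ↥H := by
  classical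
  have : Fintype ↥H := Fintype.ofFinite _
  rw [Nat.card_eq_fintype_card]
  have hs : ({(⟨1, H.one_mem⟩ : ↥H), ⟨x, hx⟩, ⟨y, hy⟩} : Finset ↥H).card = 3 := by
    rw [Finset.card_insert_of_notMem, Finset.card_insert_of_notMem, Finset.card_singleton]
    · simp only [Finset.mem_singleton, Subtype.mk.injEq]
      exact hxy
    · simp only [Finset.mem_insert, Finset.mem_singleton, Subtype.mk.injEq, not_or]
      exact ⟨fun h => hx1 h.symm, fun h => hy1 h.symm⟩
  rw [← hs]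
  exact Finset.card_le_univ _

/-- SQ-CNT. -/
theorem cnt : StCnt.{u} := by
  classical
  intro G _ _ V K O A hV hA hAV hKV hOK hOV hO3 hW4 hcomm hmax
  obtain ⟨W, hWdef⟩ : ∃ W : Subgroup G, W = ⁅V, K⁆ := ⟨_, rfl⟩
  rw [← hWdef] at hW4 ⊢
  have hVcomm : ∀ x ∈ V, ∀ y ∈ V, x * y = y * x := fun x hx y hy =>
    congrArg Subtype.val (hV.1.is_comm.comm ⟨x, hx⟩ ⟨y, hy⟩)
  have hV2 : ∀ v ∈ V, v * v = 1 := fun v hv => by
    have := hV.2 v hv
    rwa [pow_two] at this
  have hAcomm : ∀ x ∈ A, ∀ y ∈ A, x * y = y * x := fun x hx y hy =>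
    congrArg Subtype.val (hA.1.is_comm.comm ⟨x, hx⟩ ⟨y, hy⟩)
  have hA2 : ∀ a ∈ A, a * a = 1 := fun a ha => by
    have := hA.2 a ha
    rwa [pow_two] at this
  have hnV : ∀ n ∈ Subgroup.normalizer (V : Set G), ∀ v ∈ V, n * v * n⁻¹ ∈ V :=
    fun n hn v hv => (Subgroup.mem_normalizer_iff.mp hn v).mp hv
  have hinvV : ∀ v ∈ V, v⁻¹ = v := fun v hv => inv_eq_of_mul_eq_one_left (hV2 v hv)
  have hWV : W ≤ V := by
    rw [hWdef, Subgroup.commutator_le]
    intro v hv x hx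
    have := hnV x (hKV hx) v⁻¹ (V.inv_mem hv)
    have e : ⁅v, x⁆ = v * (x * v⁻¹ * x⁻¹) := by rw [commutatorElement_def]; group
    rw [e]
    exact V.mul_mem hv this
  have hW2 : ∀ w ∈ W, w * w = 1 := fun w hw => hV2 w (hWV hw)
  -- the centralizer of `V` is normalized by `K`
  have hCconj : ∀ x ∈ K, ∀ c ∈ Subgroup.centralizer (V : Set G),
      x * c * x⁻¹ ∈ Subgroup.centralizer (V : Set G) := by
    intro x hx c hc
    rw [Subgroup.mem_centralizer_iff] at hc ⊢
    intro v hv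
    have h1 : x⁻¹ * v * x ∈ V := by
      have := hnV x⁻¹ (Subgroup.inv_mem _ (hKV hx)) v hv
      simpa using this
    have h2 := hc _ h1
    calc v * (x * c * x⁻¹) = x * ((x⁻¹ * v * x) * c) * x⁻¹ := by group
      _ = x * (c * (x⁻¹ * v * x)) * x⁻¹ := by rw [h2]
      _ = x * c * x⁻¹ * v := by group
  have hCfix : ∀ c ∈ Subgroup.centralizer (V : Set G), ∀ v ∈ V, c * v * c⁻¹ = v := by
    intro c hc v hv
    have := (Subgroup.mem_centralizer_iff.mp hc) v hv
    rw [← this, mul_inv_cancel_right]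
  -- the quotient of `K` by the kernel of the action has order 3
  have hCn : ((Subgroup.centralizer (V : Set G)).subgroupOf K).Normal := by
    constructor
    intro c hc x
    rw [Subgroup.mem_subgroupOf] at hc ⊢
    have := hCconj x x.2 c hc
    simpa using this
  have hidx : ((Subgroup.centralizer (V : Set G)).subgroupOf K).index = 3 := by
    have h1 : (O.subgroupOf K) ≤ (Subgroup.centralizer (V : Set G)).subgroupOf K := by
      intro x hx
      rw [Subgroup.mem_subgroupOf] at hx ⊢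
      exact hOV hx
    have h2 := Subgroup.index_dvd_of_le h1
    have h3 : (O.subgroupOf K).index = 3 := hO3
    rw [h3] at h2
    rcases (Nat.dvd_prime Nat.prime_three).mp h2 with h | h
    · exfalso
      rw [Subgroup.index_eq_one] at h
      have hKC : K ≤ Subgroup.centralizer (V : Set G) := by
        intro x hx
        have : (⟨x, hx⟩ : ↥K) ∈ (Subgroup.centralizer (V : Set G)).subgroupOf K := by
          rw [h]; trivial
        exact this
      have hbot : W = ⊥ := by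
        rw [hWdef, eq_bot_iff, Subgroup.commutator_le]
        intro v hv x hx
        rw [Subgroup.mem_bot, commutatorElement_def]
        have := hCfix x (hKC hx) v⁻¹ (V.inv_mem hv)
        calc v * x * v⁻¹ * x⁻¹ = v * (x * v⁻¹ * x⁻¹) := by group
          _ = 1 := by rw [this]; simp
      rw [hbot] at hW4
      simp at hW4
    · exact h
  obtain ⟨k, hkK, hkC, hk3, hkpow⟩ : ∃ k ∈ K, k ∉ Subgroup.centralizer (V : Set G) ∧
      k ^ 3 ∈ Subgroup.centralizer (V : Set G) ∧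
      ∀ x ∈ K, ∃ i : ℕ, (k ^ i)⁻¹ * x ∈ Subgroup.centralizer (V : Set G) := by
    have hcard : Nat.card (↥K ⧸ (Subgroup.centralizer (V : Set G)).subgroupOf K) = 3 := hidx
    have hne : (Subgroup.centralizer (V : Set G)).subgroupOf K ≠ ⊤ := by
      intro h
      rw [← Subgroup.index_eq_one, hidx] at h
      omega
    obtain ⟨kk, -, hkk⟩ := SetLike.exists_of_lt (lt_top_iff_ne_top.mpr hne)
    have : Fact (Nat.Prime 3) := ⟨Nat.prime_three⟩
    have hq : (kk : ↥K ⧸ (Subgroup.centralizer (V : Set G)).subgroupOf K) ≠ 1 := by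
      rw [Ne, QuotientGroup.eq_one_iff]
      exact hkk
    have hz := zpowers_eq_top_of_prime_card hcard hq
    refine ⟨(kk : G), kk.2, hkk, ?_, ?_⟩
    · have h3 : (kk : ↥K ⧸ (Subgroup.centralizer (V : Set G)).subgroupOf K) ^ 3 = 1 := by
        rw [← hcard]
        exact pow_card_eq_one'
      rw [← QuotientGroup.mk_pow, QuotientGroup.eq_one_iff] at h3
      exact h3
    · intro x hx
      have hmem : ((⟨x, hx⟩ : ↥K) : ↥K ⧸ (Subgroup.centralizer (V : Set G)).subgroupOf K) ∈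
          Subgroup.zpowers (kk : ↥K ⧸ (Subgroup.centralizer (V : Set G)).subgroupOf K) := by
        rw [hz]; trivial
      rw [← mem_powers_iff_mem_zpowers] at hmem
      obtain ⟨i, hi⟩ := hmem
      refine ⟨i, ?_⟩
      have hi' : ((kk ^ i : ↥K) : ↥K ⧸ (Subgroup.centralizer (V : Set G)).subgroupOf K) =
          ((⟨x, hx⟩ : ↥K) : ↥K ⧸ (Subgroup.centralizer (V : Set G)).subgroupOf K) := by
        rw [QuotientGroup.mk_pow]; exact hi
      rw [QuotientGroup.eq] at hi'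
      exact hi'
  have hkV : ∀ v ∈ V, k * v * k⁻¹ ∈ V := hnV k (hKV hkK)
  have hkpowV : ∀ i : ℕ, ∀ v ∈ V, k ^ i * v * (k ^ i)⁻¹ ∈ V :=
    fun i => hnV (k ^ i) (Subgroup.pow_mem _ (hKV hkK) i)
  have hk3fix : ∀ v ∈ V, k ^ 3 * v * (k ^ 3)⁻¹ = v := hCfix _ hk3
  have hact : ∀ x ∈ K, ∃ i : ℕ, ∀ v ∈ V, x * v * x⁻¹ = k ^ i * v * (k ^ i)⁻¹ := by
    intro x hx
    obtain ⟨i, hi⟩ := hkpow x hx
    refine ⟨i, fun v hv => ?_⟩
    have := hCfix _ hi v hv
    calc x * v * x⁻¹ = k ^ i * (((k ^ i)⁻¹ * x) * v * ((k ^ i)⁻¹ * x)⁻¹) * (k ^ i)⁻¹ := by group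
      _ = k ^ i * v * (k ^ i)⁻¹ := by rw [this]
  have hpsi_mul : ∀ u ∈ V, ∀ u' ∈ V, (u * (k * u * k⁻¹)) * (u' * (k * u' * k⁻¹)) =
      (u * u') * (k * (u * u') * k⁻¹) := by
    intro u hu u' hu'
    have h1 := hVcomm (k * u * k⁻¹) (hkV u hu) u' hu'
    calc (u * (k * u * k⁻¹)) * (u' * (k * u' * k⁻¹))
        = u * ((k * u * k⁻¹) * u') * (k * u' * k⁻¹) := by group
      _ = u * (u' * (k * u * k⁻¹)) * (k * u' * k⁻¹) := by rw [h1]
      _ = (u * u') * (k * (u * u') * k⁻¹) := by group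
  have hpow : ∀ i : ℕ, ∀ v ∈ V, ∃ u ∈ V, v * (k ^ i * v * (k ^ i)⁻¹) = u * (k * u * k⁻¹) := by
    intro i
    induction i with
    | zero =>
      intro v hv
      exact ⟨1, V.one_mem, by simp [hV2 v hv]⟩
    | succ i ih =>
      intro v hv
      obtain ⟨u, hu, hue⟩ := ih v hv
      obtain ⟨y, hy⟩ : ∃ y, y = k ^ i * v * (k ^ i)⁻¹ := ⟨_, rfl⟩
      have hyV : y ∈ V := hy ▸ hkpowV i v hv
      refine ⟨u * y, V.mul_mem hu hyV, ?_⟩
      rw [← hpsi_mul u hu y hyV, ← hue, ← hy]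
      have e1 : k ^ (i + 1) * v * (k ^ (i + 1))⁻¹ = k * y * k⁻¹ := by
        rw [hy, pow_succ']; group
      rw [e1]
      have := hV2 y hyV
      calc v * (k * y * k⁻¹) = v * (y * y) * (k * y * k⁻¹) := by rw [this, mul_one]
        _ = v * y * (y * (k * y * k⁻¹)) := by group
  obtain ⟨S, hSdef⟩ : ∃ S : Subgroup G, ∀ y, y ∈ S ↔ ∃ u ∈ V, y = u * (k * u * k⁻¹) := by
    refine ⟨{ carrier := {y | ∃ u ∈ V, y = u * (k * u * k⁻¹)}
              mul_mem' := ?_
              one_mem' := ?_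
              inv_mem' := ?_ }, fun y => Iff.rfl⟩
    · rintro _ _ ⟨u, hu, rfl⟩ ⟨u', hu', rfl⟩
      exact ⟨u * u', V.mul_mem hu hu', hpsi_mul u hu u' hu'⟩
    · exact ⟨1, V.one_mem, by simp⟩
    · rintro _ ⟨u, hu, rfl⟩
      exact ⟨u, hu, hinvV _ (V.mul_mem hu (hkV u hu))⟩
  have hWS : W ≤ S := by
    rw [hWdef, Subgroup.commutator_le]
    intro v hv x hx
    rw [hSdef]
    obtain ⟨i, hi⟩ := hact x hx
    obtain ⟨u, hu, hue⟩ := hpow i v hv
    refine ⟨u, hu, ?_⟩
    rw [← hue, ← hi v hv, commutatorElement_def]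
    have := hinvV v hv
    calc v * x * v⁻¹ * x⁻¹ = v * (x * v⁻¹ * x⁻¹) := by group
      _ = v * (x * v * x⁻¹) := by rw [this]
  have hF2 : ∀ w ∈ W, k * w * k⁻¹ = w → w = 1 := by
    intro w hw hfix
    obtain ⟨u, hu, rfl⟩ := (hSdef w).mp (hWS hw)
    have hφu := hkV u hu
    have hφ2u := hkV _ hφu
    have e1 : k * (u * (k * u * k⁻¹)) * k⁻¹ = (k * u * k⁻¹) * (k * (k * u * k⁻¹) * k⁻¹) := by
      group
    rw [e1, hVcomm _ hφu _ hφ2u] at hfix
    have h2 : k * (k * u * k⁻¹) * k⁻¹ = u := mul_right_cancel hfix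
    have h3 : k * u * k⁻¹ = u := by
      have h4 := hk3fix u hu
      have e : k ^ 3 * u * (k ^ 3)⁻¹ = k * (k * (k * u * k⁻¹) * k⁻¹) * k⁻¹ := by
        rw [pow_succ, pow_two]; group
      rw [e, h2] at h4
      exact h4
    rw [h3]
    exact hV2 u hu
  -- conjugates of `k` by elements of `A` normalize `W`
  have hnorm : ∀ c ∈ A, ∀ w ∈ W, (c * k * c⁻¹) * w * (c * k * c⁻¹)⁻¹ ∈ W := by
    intro c hc
    obtain ⟨y, hy_def⟩ : ∃ y, y = c * k * c⁻¹ := ⟨_, rfl⟩
    rw [← hy_def]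
    have hy : y ∈ K.map (MulAut.conj c).toMonoidHom := ⟨k, hkK, hy_def.symm⟩
    have hyV : y ∈ Subgroup.normalizer (V : Set G) := by
      rw [hy_def]
      exact Subgroup.mul_mem _ (Subgroup.mul_mem _ (hAV hc) (hKV hkK))
        (Subgroup.inv_mem _ (hAV hc))
    have hmap : W.map (MulAut.conj y).toMonoidHom ≤ W := by
      rw [hWdef, Subgroup.map_commutator, Subgroup.commutator_le]
      rintro _ ⟨v, hv, rfl⟩ _ ⟨x, hx, rfl⟩
      have hv' : y * v * y⁻¹ ∈ V := hnV y hyV v hv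
      have hcc : y * x * y⁻¹ * x⁻¹ ∈ Subgroup.centralizer (V : Set G) := by
        have h1 : ⁅y, x⁆ ∈ ⁅K.map (MulAut.conj c).toMonoidHom, K⁆ :=
          Subgroup.commutator_mem_commutator hy hx
        rw [Subgroup.commutator_comm] at h1
        exact hcomm c hc h1
      have hgen : ⁅y * v * y⁻¹, x⁆ ∈ ⁅V, K⁆ := Subgroup.commutator_mem_commutator hv' hx
      have e : ⁅(MulAut.conj y).toMonoidHom v, (MulAut.conj y).toMonoidHom x⁆ =
          ⁅y * v * y⁻¹, x⁆ := by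
        show ⁅y * v * y⁻¹, y * x * y⁻¹⁆ = ⁅y * v * y⁻¹, x⁆
        obtain ⟨v', hv'_def⟩ : ∃ v', v' = y * v * y⁻¹ := ⟨_, rfl⟩
        obtain ⟨c', hc'_def⟩ : ∃ c', c' = y * x * y⁻¹ * x⁻¹ := ⟨_, rfl⟩
        rw [← hv'_def] at hv' hgen ⊢
        rw [← hc'_def] at hcc
        have hx' : y * x * y⁻¹ = c' * x := by rw [hc'_def]; group
        rw [hx', commutatorElement_def, commutatorElement_def]
        have hcv : v' * c' = c' * v' := (Subgroup.mem_centralizer_iff.mp hcc) v' hv'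
        have hgV : v' * x * v'⁻¹ * x⁻¹ ∈ V := by
          have : ⁅v', x⁆ ∈ W := hWdef ▸ hgen
          rw [commutatorElement_def] at this
          exact hWV this
        have h2 : c' * (v' * x * v'⁻¹ * x⁻¹) * c'⁻¹ = v' * x * v'⁻¹ * x⁻¹ :=
          hCfix c' hcc _ hgV
        calc v' * (c' * x) * v'⁻¹ * (c' * x)⁻¹ = (v' * c') * x * v'⁻¹ * x⁻¹ * c'⁻¹ := by group
          _ = (c' * v') * x * v'⁻¹ * x⁻¹ * c'⁻¹ := by rw [hcv]
          _ = c' * (v' * x * v'⁻¹ * x⁻¹) * c'⁻¹ := by group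
          _ = v' * x * v'⁻¹ * x⁻¹ := h2
      rw [e]
      exact hgen
    intro w hw
    exact hmap ⟨w, hw, rfl⟩
  have hkW : ∀ w ∈ W, k * w * k⁻¹ ∈ W := by
    intro w hw
    have := hnorm 1 A.one_mem w hw
    simpa using this
  have hcardmap : ∀ c : G, Nat.card ↥(W.map (MulAut.conj c).toMonoidHom) = 4 := by
    intro c
    rw [← hW4]
    exact Nat.card_congr (W.equivMapOfInjective _ (MulAut.conj c).injective).symm.toEquiv
  -- if `W^c ≠ W` then the conjugate of `k` by `c` centralizes `W`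
  have hcent : ∀ c ∈ A, W.map (MulAut.conj c).toMonoidHom ≠ W →
      ∀ w ∈ W, (c * k * c⁻¹) * w * (c * k * c⁻¹)⁻¹ = w := by
    intro c hc hne w hw
    have hcinv : c⁻¹ ∈ A := A.inv_mem hc
    have hinf : W ⊓ W.map (MulAut.conj c).toMonoidHom = ⊥ := by
      by_contra hnb
      obtain ⟨⟨z, hz⟩, hz1'⟩ := (Subgroup.ne_bot_iff_exists_ne_one).mp hnb
      have hz1 : z ≠ 1 := fun h => hz1' (Subtype.ext h)
      obtain ⟨hzW, hzWc⟩ := hz
      have hkzW : k * z * k⁻¹ ∈ W := hkW z hzW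
      have hkzWc : k * z * k⁻¹ ∈ W.map (MulAut.conj c).toMonoidHom := by
        obtain ⟨z₀, hz₀, hz₀e⟩ := hzWc
        have hz₀e' : c * z₀ * c⁻¹ = z := hz₀e
        have h1 := hnorm c⁻¹ hcinv z₀ hz₀
        refine ⟨_, h1, ?_⟩
        show c * ((c⁻¹ * k * c⁻¹⁻¹) * z₀ * (c⁻¹ * k * c⁻¹⁻¹)⁻¹) * c⁻¹ = k * z * k⁻¹
        rw [← hz₀e']
        group
      have hne1 : k * z * k⁻¹ ≠ 1 := by
        intro h
        apply hz1
        have : z = k⁻¹ * (k * z * k⁻¹) * k := by group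
        rw [this, h]; group
      have hnez : z ≠ k * z * k⁻¹ := by
        intro h
        exact hz1 (hF2 z hzW h.symm)
      have h3 := three_le_card (W ⊓ W.map (MulAut.conj c).toMonoidHom) z (k * z * k⁻¹)
        ⟨hzW, hzWc⟩ ⟨hkzW, hkzWc⟩ hz1 hne1 hnez
      have hdvd : Nat.card ↥(W ⊓ W.map (MulAut.conj c).toMonoidHom) ∣ 4 := by
        rw [← hW4]
        exact Subgroup.card_dvd_of_le inf_le_left
      have h4 : Nat.card ↥(W ⊓ W.map (MulAut.conj c).toMonoidHom) = 4 := by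
        have hle := Nat.le_of_dvd (by norm_num) hdvd
        interval_cases hn : Nat.card ↥(W ⊓ W.map (MulAut.conj c).toMonoidHom)
        · norm_num at hdvd
        · rfl
      have e1 : W ⊓ W.map (MulAut.conj c).toMonoidHom = W :=
        Subgroup.eq_of_le_of_card_ge inf_le_left (by rw [h4, hW4])
      have e2 : W ⊓ W.map (MulAut.conj c).toMonoidHom = W.map (MulAut.conj c).toMonoidHom :=
        Subgroup.eq_of_le_of_card_ge inf_le_right (by rw [h4, hcardmap c])
      exact hne (e2.symm.trans e1)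
    have hd1 : (c * k * c⁻¹) * w * (c * k * c⁻¹)⁻¹ * w⁻¹ ∈ W :=
      W.mul_mem (hnorm c hc w hw) (W.inv_mem hw)
    have hd2 : (c * k * c⁻¹) * w * (c * k * c⁻¹)⁻¹ * w⁻¹ ∈ W.map (MulAut.conj c).toMonoidHom := by
      have hVc : V.map (MulAut.conj c).toMonoidHom = V := map_conj_eq_self V c (hAV hc)
      have e : W.map (MulAut.conj c).toMonoidHom = ⁅V, K.map (MulAut.conj c).toMonoidHom⁆ := by
        rw [hWdef, Subgroup.map_commutator, hVc]
      rw [e, Subgroup.commutator_comm]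
      have := Subgroup.commutator_mem_commutator
        (H₁ := K.map (MulAut.conj c).toMonoidHom) (H₂ := V)
        (⟨k, hkK, rfl⟩ : c * k * c⁻¹ ∈ K.map (MulAut.conj c).toMonoidHom) (hWV hw)
      rw [commutatorElement_def] at this
      exact this
    have hd : (c * k * c⁻¹) * w * (c * k * c⁻¹)⁻¹ * w⁻¹ ∈
        W ⊓ W.map (MulAut.conj c).toMonoidHom := ⟨hd1, hd2⟩
    rw [hinf, Subgroup.mem_bot] at hd
    exact mul_inv_eq_one.mp hd
  have hG2 : ∀ a ∈ A, ∀ w ∈ W.map (MulAut.conj a).toMonoidHom,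
      (a * k * a⁻¹) * w * (a * k * a⁻¹)⁻¹ = w → w = 1 := by
    rintro a ha _ ⟨w₀, hw₀, rfl⟩ hfix
    change a * k * a⁻¹ * (a * w₀ * a⁻¹) * (a * k * a⁻¹)⁻¹ = a * w₀ * a⁻¹ at hfix
    have e : a * k * a⁻¹ * (a * w₀ * a⁻¹) * (a * k * a⁻¹)⁻¹ = a * (k * w₀ * k⁻¹) * a⁻¹ := by
      group
    rw [e] at hfix
    have h1 : k * w₀ * k⁻¹ = w₀ := mul_left_cancel (mul_right_cancel hfix)
    have := hF2 w₀ hw₀ h1
    show a * w₀ * a⁻¹ = 1
    rw [this]; group
  have hG1 : ∀ a ∈ A, ∀ b ∈ A,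
      W.map (MulAut.conj a).toMonoidHom ≠ W.map (MulAut.conj b).toMonoidHom →
      ∀ w ∈ W.map (MulAut.conj b).toMonoidHom, (a * k * a⁻¹) * w * (a * k * a⁻¹)⁻¹ = w := by
    rintro a ha b hb hne _ ⟨w₀, hw₀, rfl⟩
    have hc : b⁻¹ * a ∈ A := A.mul_mem (A.inv_mem hb) ha
    have hne' : W.map (MulAut.conj (b⁻¹ * a)).toMonoidHom ≠ W := by
      intro h
      apply hne
      have e2 : W.map (MulAut.conj a).toMonoidHom =
          (W.map (MulAut.conj (b⁻¹ * a)).toMonoidHom).map (MulAut.conj b).toMonoidHom := by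
        rw [← map_conj_mul']
        have : b * (b⁻¹ * a) = a := by group
        rw [this]
      rw [e2, h]
    have h1 := hcent (b⁻¹ * a) hc hne' w₀ hw₀
    show (a * k * a⁻¹) * (b * w₀ * b⁻¹) * (a * k * a⁻¹)⁻¹ = b * w₀ * b⁻¹
    have e : (a * k * a⁻¹) * (b * w₀ * b⁻¹) * (a * k * a⁻¹)⁻¹ =
        b * ((b⁻¹ * a * k * (b⁻¹ * a)⁻¹) * w₀ * (b⁻¹ * a * k * (b⁻¹ * a)⁻¹)⁻¹) * b⁻¹ := by
      group
    rw [e, h1]
  have : Fintype ↥A := Fintype.ofFinite _
  obtain ⟨Ω, hΩdef⟩ : ∃ Ω : Finset (Subgroup G), Ω = (Finset.univ : Finset ↥A).image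
      (fun a : ↥A => W.map (MulAut.conj (a : G)).toMonoidHom) := ⟨_, rfl⟩
  have hΩmem : ∀ X ∈ Ω, ∃ a ∈ A, X = W.map (MulAut.conj a).toMonoidHom := by
    intro X hX
    rw [hΩdef, Finset.mem_image] at hX
    obtain ⟨a, -, rfl⟩ := hX
    exact ⟨a, a.2, rfl⟩
  have hΩin : ∀ a ∈ A, W.map (MulAut.conj a).toMonoidHom ∈ Ω := by
    intro a ha
    rw [hΩdef, Finset.mem_image]
    exact ⟨⟨a, ha⟩, Finset.mem_univ _, rfl⟩
  have hW1 : W.map (MulAut.conj (1 : G)).toMonoidHom = W := by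
    ext x
    constructor
    · rintro ⟨w, hw, rfl⟩
      simpa using hw
    · intro hx
      exact ⟨x, hx, by simp⟩
  have hWΩ : W ∈ Ω := by
    have := hΩin 1 A.one_mem
    rwa [hW1] at this
  have hXV : ∀ X ∈ Ω, X ≤ V := by
    intro X hX
    obtain ⟨a, ha, rfl⟩ := hΩmem X hX
    rintro _ ⟨w, hw, rfl⟩
    exact hnV a (hAV ha) w (hWV hw)
  have hSV : ∀ S : Finset (Subgroup G), S ⊆ Ω → (⨆ X ∈ S, X) ≤ V := by
    intro S hS
    exact iSup₂_le fun X hX => hXV X (hS hX)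
  have hD1 : ∀ S : Finset (Subgroup G), S ⊆ Ω → ∀ a ∈ A,
      W.map (MulAut.conj a).toMonoidHom ∉ S →
      ∀ u ∈ ⨆ X ∈ S, X, (a * k * a⁻¹) * u * (a * k * a⁻¹)⁻¹ = u := by
    intro S hS a ha hnot u hu
    have hle : (⨆ X ∈ S, X) ≤ Subgroup.centralizer ({a * k * a⁻¹} : Set G) := by
      apply iSup₂_le
      intro X hX w hw
      obtain ⟨b, hb, rfl⟩ := hΩmem X (hS hX)
      have hne : W.map (MulAut.conj a).toMonoidHom ≠ W.map (MulAut.conj b).toMonoidHom := by
        intro h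
        rw [h] at hnot
        exact hnot hX
      have h1 := hG1 a ha b hb hne w hw
      rw [Subgroup.mem_centralizer_iff]
      intro h hh
      rw [Set.mem_singleton_iff] at hh
      rw [hh]
      calc (a * k * a⁻¹) * w = ((a * k * a⁻¹) * w * (a * k * a⁻¹)⁻¹) * (a * k * a⁻¹) := by group
        _ = w * (a * k * a⁻¹) := by rw [h1]
    have h2 := (Subgroup.mem_centralizer_iff.mp (hle hu)) (a * k * a⁻¹) (Set.mem_singleton _)
    rw [h2, mul_inv_cancel_right]
  have hD2 : ∀ S : Finset (Subgroup G), S ⊆ Ω → ∀ a ∈ A,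
      W.map (MulAut.conj a).toMonoidHom ∉ S →
      (⨆ X ∈ S, X) ⊓ W.map (MulAut.conj a).toMonoidHom = ⊥ := by
    intro S hS a ha hnot
    rw [eq_bot_iff]
    rintro z ⟨hz1, hz2⟩
    rw [Subgroup.mem_bot]
    exact hG2 a ha z hz2 (hD1 S hS a ha hnot z hz1)
  have hD3 : ∀ S : Finset (Subgroup G), S ⊆ Ω → 4 ^ S.card ≤ Nat.card ↥(⨆ X ∈ S, X) := by
    intro S
    induction S using Finset.induction_on with
    | empty =>
      intro _
      simp
    | insert X S hXS ih =>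
      intro hS
      have hS' : S ⊆ Ω := (Finset.subset_insert X S).trans hS
      have hXΩ : X ∈ Ω := hS (Finset.mem_insert_self X S)
      obtain ⟨a, ha, rfl⟩ := hΩmem X hXΩ
      have hinf := hD2 S hS' a ha hXS
      have h1 := card_mul_le_card_sup _ _ hinf
      rw [Finset.card_insert_of_notMem hXS, pow_succ, Finset.iSup_insert, sup_comm]
      calc 4 ^ S.card * 4 ≤ Nat.card ↥(⨆ X ∈ S, X) *
            Nat.card ↥(W.map (MulAut.conj a).toMonoidHom) := by
            rw [hcardmap a]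
            exact Nat.mul_le_mul_right 4 (ih hS')
        _ ≤ _ := h1
  have hD4 : ∀ S : Finset (Subgroup G), S ⊆ Ω → ∀ u ∈ ⨆ X ∈ S, X,
      (∀ a ∈ A, (a * k * a⁻¹) * u * (a * k * a⁻¹)⁻¹ = u) → u = 1 := by
    intro S
    induction S using Finset.induction_on with
    | empty =>
      intro _ u hu _
      simpa using hu
    | insert X S hXS ih =>
      intro hS u hu hfix
      have hS' : S ⊆ Ω := (Finset.subset_insert X S).trans hS
      have hXΩ : X ∈ Ω := hS (Finset.mem_insert_self X S)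
      obtain ⟨a, ha, rfl⟩ := hΩmem X hXΩ
      rw [Finset.iSup_insert] at hu
      have hcm : ∀ p ∈ W.map (MulAut.conj a).toMonoidHom, ∀ q ∈ ⨆ X ∈ S, X, p * q = q * p :=
        fun p hp q hq => hVcomm p (hXV _ hXΩ hp) q (hSV S hS' hq)
      obtain ⟨x, hx, t, ht, rfl⟩ := mem_sup_of_commute _ _ hcm hu
      have h1 := hD1 S hS' a ha hXS t ht
      have h2 := hfix a ha
      have h3 : (a * k * a⁻¹) * x * (a * k * a⁻¹)⁻¹ = x := by
        have e : (a * k * a⁻¹) * (x * t) * (a * k * a⁻¹)⁻¹ =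
            ((a * k * a⁻¹) * x * (a * k * a⁻¹)⁻¹) * ((a * k * a⁻¹) * t * (a * k * a⁻¹)⁻¹) := by
          group
        rw [e, h1] at h2
        exact mul_right_cancel h2
      have hx1 := hG2 a ha x hx h3
      subst hx1
      simp only [one_mul] at hfix ⊢
      exact ih hS' t ht hfix
  obtain ⟨V'', hV''def⟩ : ∃ V'' : Subgroup G, V'' = ⨆ X ∈ Ω.erase W, X := ⟨_, rfl⟩
  have hEsub : Ω.erase W ⊆ Ω := Finset.erase_subset _ _
  have hWnot : W.map (MulAut.conj (1 : G)).toMonoidHom ∉ Ω.erase W := by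
    rw [hW1]
    exact Finset.notMem_erase W Ω
  have hV''V : V'' ≤ V := hV''def ▸ hSV _ hEsub
  have hV''W : V'' ⊓ W = ⊥ := by
    have := hD2 _ hEsub 1 A.one_mem hWnot
    rwa [hW1, ← hV''def] at this
  have hV''card : 4 ^ (Ω.card - 1) ≤ Nat.card ↥V'' := by
    have := hD3 _ hEsub
    rwa [Finset.card_erase_of_mem hWΩ, ← hV''def] at this
  have hβ : ∀ u ∈ V'', u ∈ A → u = 1 := by
    intro u hu huA
    have hu' : u ∈ ⨆ X ∈ Ω.erase W, X := hV''def ▸ hu
    have hk : k * u * k⁻¹ = u := by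
      have := hD1 _ hEsub 1 A.one_mem hWnot u hu'
      simpa using this
    apply hD4 _ hEsub u hu'
    intro a ha
    have hau : a⁻¹ * u * a = u := by
      have := hAcomm u huA a ha
      rw [mul_assoc, this, inv_mul_cancel_left]
    calc (a * k * a⁻¹) * u * (a * k * a⁻¹)⁻¹ = a * (k * (a⁻¹ * u * a) * k⁻¹) * a⁻¹ := by group
      _ = a * u * a⁻¹ := by rw [hau, hk]
      _ = u := by rw [hAcomm a ha u huA, mul_inv_cancel_right]
  obtain ⟨B₁, hB₁def⟩ : ∃ B₁ : Subgroup G, B₁ = A ⊓ Subgroup.centralizer (W : Set G) := ⟨_, rfl⟩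
  obtain ⟨A₁, hA₁def⟩ : ∃ A₁ : Subgroup G, A₁ = A ⊓ Subgroup.normalizer (W : Set G) := ⟨_, rfl⟩
  have hB₁A : B₁ ≤ A := hB₁def ▸ inf_le_left
  have hB₁W : ∀ b ∈ B₁, ∀ w ∈ W, b * w * b⁻¹ = w := by
    intro b hb w hw
    rw [hB₁def] at hb
    have := (Subgroup.mem_centralizer_iff.mp hb.2) w hw
    rw [← this, mul_inv_cancel_right]
  have hB₁X : ∀ X ∈ Ω, X ≤ Subgroup.centralizer (B₁ : Set G) := by
    intro X hX
    obtain ⟨a, ha, rfl⟩ := hΩmem X hX
    rintro _ ⟨w, hw, rfl⟩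
    rw [Subgroup.mem_centralizer_iff]
    intro b hb
    show b * (a * w * a⁻¹) = a * w * a⁻¹ * b
    have h1 := hAcomm b (hB₁A hb) a ha
    have h2 := hB₁W b hb w hw
    have h3 : b * w = w * b := by
      calc b * w = (b * w * b⁻¹) * b := by group
        _ = w * b := by rw [h2]
    have h4 : b * a⁻¹ = a⁻¹ * b := by
      calc b * a⁻¹ = a⁻¹ * (a * b) * a⁻¹ := by group
        _ = a⁻¹ * (b * a) * a⁻¹ := by rw [h1]
        _ = a⁻¹ * b := by group
    calc b * (a * w * a⁻¹) = (b * a) * w * a⁻¹ := by group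
      _ = a * (b * w) * a⁻¹ := by rw [h1]; group
      _ = a * w * (b * a⁻¹) := by rw [h3]; group
      _ = a * w * a⁻¹ * b := by rw [h4]; group
  have hfib : ∀ a₀ ∈ A, ∀ a ∈ A, W.map (MulAut.conj a).toMonoidHom =
      W.map (MulAut.conj a₀).toMonoidHom → a₀⁻¹ * a ∈ A₁ := by
    intro a₀ ha₀ a ha h
    rw [hA₁def]
    refine ⟨A.mul_mem (A.inv_mem ha₀) ha, ?_⟩
    apply mem_normalizer_of_map_conj_eq
    rw [map_conj_mul', h, ← map_conj_mul', inv_mul_cancel, hW1]
  have hA₁V'' : ∀ x ∈ A₁, ∀ v ∈ V'', x * v * x⁻¹ ∈ V'' := by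
    intro x hx v hv
    rw [hA₁def] at hx
    have hmap : V''.map (MulAut.conj x).toMonoidHom ≤ V'' := by
      rw [hV''def, Subgroup.map_iSup]
      apply iSup_le
      intro X
      rw [Subgroup.map_iSup]
      apply iSup_le
      intro hX
      have hXΩ := hEsub hX
      obtain ⟨b, hb, rfl⟩ := hΩmem X hXΩ
      have hmem : (W.map (MulAut.conj b).toMonoidHom).map (MulAut.conj x).toMonoidHom ∈
          Ω.erase W := by
        rw [Finset.mem_erase]
        constructor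
        · intro h
          have h' : (W.map (MulAut.conj b).toMonoidHom).map (MulAut.conj x).toMonoidHom =
              W.map (MulAut.conj x).toMonoidHom := by
            rw [h, map_conj_eq_self W x hx.2]
          have := Subgroup.map_injective (MulAut.conj x).injective h'
          exact (Finset.mem_erase.mp hX).1 this
        · rw [← map_conj_mul']
          exact hΩin _ (A.mul_mem hx.1 hb)
      exact le_iSup₂_of_le _ hmem le_rfl
    exact hmap ⟨v, hv, rfl⟩
  obtain ⟨W₁, e, hW₁W, he, hW₁card, hA₁card, hV'B⟩ : ∃ (W₁ : Subgroup G) (e : ℕ), W₁ ≤ W ∧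
      0 < e ∧ e ≤ Nat.card ↥W₁ ∧ Nat.card ↥A₁ ≤ e * Nat.card ↥B₁ ∧ (V'' ⊔ W₁) ⊓ B₁ = ⊥ := by
    by_cases hcase : ∀ a₁ ∈ A₁, a₁ ∈ Subgroup.centralizer (W : Set G)
    · refine ⟨⊥, 1, bot_le, Nat.one_pos, by simp, ?_, ?_⟩
      · rw [one_mul]
        apply Subgroup.card_le_of_le
        intro x hx
        rw [hB₁def]
        exact ⟨(hA₁def ▸ hx : x ∈ A ⊓ Subgroup.normalizer (W : Set G)).1, hcase x hx⟩
      · rw [sup_bot_eq, eq_bot_iff]
        rintro z ⟨hz1, hz2⟩
        rw [Subgroup.mem_bot]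
        exact hβ z hz1 (hB₁A hz2)
    · rw [not_forall] at hcase
      obtain ⟨a₁, hcase⟩ := hcase
      rw [Classical.not_imp] at hcase
      obtain ⟨ha₁, ha₁C⟩ := hcase
      have ha₁' : a₁ ∈ A ⊓ Subgroup.normalizer (W : Set G) := hA₁def ▸ ha₁
      have ha₁W : ∀ w ∈ W, a₁ * w * a₁⁻¹ ∈ W :=
        fun w hw => (Subgroup.mem_normalizer_iff.mp ha₁'.2 w).mp hw
      obtain ⟨w₁, hw₁, hmove⟩ : ∃ w₁ ∈ W, a₁ * w₁ * a₁⁻¹ ≠ w₁ := by
        by_contra hcon
        apply ha₁C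
        rw [Subgroup.mem_centralizer_iff]
        intro w hw
        have : a₁ * w * a₁⁻¹ = w := by
          by_contra h
          exact hcon ⟨w, hw, h⟩
        calc w * a₁ = (a₁ * w * a₁⁻¹) * a₁ := by rw [this]
          _ = a₁ * w := by group
      have hw₁1 : w₁ ≠ 1 := by
        rintro rfl
        apply hmove
        group
      obtain ⟨W₁, hW₁def⟩ : ∃ W₁ : Subgroup G, ∀ x, x ∈ W₁ ↔ (x = 1 ∨ x = w₁) := by
        refine ⟨{ carrier := {x | x = 1 ∨ x = w₁}
                  mul_mem' := ?_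
                  one_mem' := Or.inl rfl
                  inv_mem' := ?_ }, fun x => Iff.rfl⟩
        · rintro _ _ (rfl | rfl) (rfl | rfl)
          · left; simp
          · right; simp
          · right; simp
          · left; exact hW2 _ hw₁
        · rintro _ (rfl | rfl)
          · left; simp
          · right; exact inv_eq_of_mul_eq_one_left (hW2 _ hw₁)
      have hW₁W : W₁ ≤ W := by
        intro x hx
        rcases (hW₁def x).mp hx with rfl | rfl
        · exact W.one_mem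
        · exact hw₁
      have hkey : ∀ x ∈ A₁, x ∈ B₁ ∨ a₁⁻¹ * x ∈ B₁ := by
        intro x hx
        have hx' : x ∈ A ⊓ Subgroup.normalizer (W : Set G) := hA₁def ▸ hx
        have hxW : ∀ w ∈ W, x * w * x⁻¹ ∈ W :=
          fun w hw => (Subgroup.mem_normalizer_iff.mp hx'.2 w).mp hw
        rcases four_aut W hW4 hW2 a₁ x ha₁W hxW (hA2 a₁ ha₁'.1)
          (hAcomm a₁ ha₁'.1 x hx'.1) ⟨w₁, hw₁, hmove⟩ with h | h
        · left
          rw [hB₁def]
          refine ⟨hx'.1, ?_⟩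
          show x ∈ Subgroup.centralizer (W : Set G)
          rw [Subgroup.mem_centralizer_iff]
          intro w hw
          calc w * x = (x * w * x⁻¹) * x := by rw [h w hw]
            _ = x * w := by group
        · right
          rw [hB₁def]
          refine ⟨A.mul_mem (A.inv_mem ha₁'.1) hx'.1, ?_⟩
          show a₁⁻¹ * x ∈ Subgroup.centralizer (W : Set G)
          rw [Subgroup.mem_centralizer_iff]
          intro w hw
          calc w * (a₁⁻¹ * x) = a₁⁻¹ * (a₁ * w * a₁⁻¹) * x := by group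
            _ = a₁⁻¹ * (x * w * x⁻¹) * x := by rw [h w hw]
            _ = a₁⁻¹ * x * w := by group
      refine ⟨W₁, 2, hW₁W, by norm_num, ?_, ?_, ?_⟩
      · have hne : W₁ ≠ ⊥ := by
          intro h
          have : w₁ ∈ W₁ := (hW₁def w₁).mpr (Or.inr rfl)
          rw [h, Subgroup.mem_bot] at this
          exact hw₁1 this
        have := (Subgroup.one_lt_card_iff_ne_bot W₁).mpr hne
        omega
      · have hinj : Function.Injective (fun x : ↥A₁ =>
            if h : (x : G) ∈ B₁ then ((false, ⟨(x : G), h⟩) : Bool × ↥B₁)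
            else (true, ⟨a₁⁻¹ * (x : G), (hkey x x.2).resolve_left h⟩)) := by
          intro x y hxy
          by_cases hx : (x : G) ∈ B₁ <;> by_cases hy : (y : G) ∈ B₁
          · simp only [dif_pos hx, dif_pos hy, Prod.mk.injEq, Subtype.mk.injEq, true_and] at hxy
            exact Subtype.ext hxy
          · simp only [dif_pos hx, dif_neg hy, Prod.mk.injEq] at hxy
            exact absurd hxy.1 (by simp)
          · simp only [dif_neg hx, dif_pos hy, Prod.mk.injEq] at hxy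
            exact absurd hxy.1 (by simp)
          · simp only [dif_neg hx, dif_neg hy, Prod.mk.injEq, Subtype.mk.injEq, true_and] at hxy
            exact Subtype.ext (mul_left_cancel hxy)
        have := Nat.card_le_card_of_injective _ hinj
        rw [Nat.card_prod] at this
        simpa using this
      · rw [eq_bot_iff]
        rintro z ⟨hz1, hz2⟩
        rw [Subgroup.mem_bot]
        have hcm : ∀ p ∈ V'', ∀ q ∈ W₁, p * q = q * p :=
          fun p hp q hq => hVcomm p (hV''V hp) q (hWV (hW₁W hq))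
        obtain ⟨v, hv, w, hw, rfl⟩ := mem_sup_of_commute _ _ hcm hz1
        have hzA := hB₁A hz2
        have hw1 : w = 1 := by
          rcases (hW₁def w).mp hw with h | h
          · exact h
          · exfalso
            subst h
            have hfixz : a₁ * (v * w) * a₁⁻¹ = v * w := by
              rw [hAcomm a₁ ha₁'.1 _ hzA, mul_inv_cancel_right]
            have hv' := hA₁V'' a₁ ha₁ v hv
            have hw' := ha₁W w hw₁
            have hmem : v⁻¹ * (a₁ * v * a₁⁻¹) ∈ V'' ⊓ W := by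
              refine ⟨V''.mul_mem (V''.inv_mem hv) hv', ?_⟩
              have e : v⁻¹ * (a₁ * v * a₁⁻¹) = w * (a₁ * w * a₁⁻¹)⁻¹ := by
                have e1 : a₁ * (v * w) * a₁⁻¹ = (a₁ * v * a₁⁻¹) * (a₁ * w * a₁⁻¹) := by group
                rw [e1] at hfixz
                calc v⁻¹ * (a₁ * v * a₁⁻¹)
                    = v⁻¹ * ((a₁ * v * a₁⁻¹) * (a₁ * w * a₁⁻¹)) * (a₁ * w * a₁⁻¹)⁻¹ := by group
                  _ = v⁻¹ * (v * w) * (a₁ * w * a₁⁻¹)⁻¹ := by rw [hfixz]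
                  _ = w * (a₁ * w * a₁⁻¹)⁻¹ := by group
              rw [e]
              exact W.mul_mem hw₁ (W.inv_mem hw')
            rw [hV''W, Subgroup.mem_bot] at hmem
            have hvfix : a₁ * v * a₁⁻¹ = v := by
              have := congrArg (fun t => v * t) hmem
              simpa using this
            apply hmove
            have e1 : a₁ * (v * w) * a₁⁻¹ = (a₁ * v * a₁⁻¹) * (a₁ * w * a₁⁻¹) := by group
            rw [e1, hvfix] at hfixz
            exact mul_left_cancel hfixz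
        subst hw1
        rw [mul_one] at hzA ⊢
        exact hβ v hv hzA
  obtain ⟨V', hV'def⟩ : ∃ V' : Subgroup G, V' = V'' ⊔ W₁ := ⟨_, rfl⟩
  have hV'V : V' ≤ V := hV'def ▸ sup_le hV''V (hW₁W.trans hWV)
  have hB₁cV' : B₁ ≤ Subgroup.centralizer (V' : Set G) := by
    rw [Subgroup.le_centralizer_iff, hV'def]
    apply sup_le
    · rw [hV''def]
      exact iSup₂_le fun X hX => hB₁X X (hEsub hX)
    · exact hW₁W.trans (hB₁X W hWΩ)
  have h1 := hmax V' B₁ hV'V hB₁A hB₁cV'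
  have h2 := card_mul_le_card_sup V' B₁ (hV'def ▸ hV'B)
  have h3 : Nat.card ↥V'' * Nat.card ↥W₁ ≤ Nat.card ↥V' := by
    rw [hV'def]
    apply card_mul_le_card_sup
    rw [eq_bot_iff, ← hV''W]
    exact inf_le_inf_left _ hW₁W
  have h4 : Nat.card ↥A ≤ Nat.card ↥A₁ * Ω.card := by
    rw [Nat.card_eq_fintype_card (α := ↥A), ← Finset.card_univ, hΩdef]
    apply Finset.card_le_mul_card_image
    intro X hX
    obtain ⟨a₀, -, rfl⟩ := Finset.mem_image.mp hX
    have : Fintype ↥A₁ := Fintype.ofFinite _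
    rw [Nat.card_eq_fintype_card, ← Finset.card_univ]
    apply Finset.card_le_card_of_injOn (fun a : ↥A =>
      if h : W.map (MulAut.conj (a : G)).toMonoidHom = W.map (MulAut.conj (a₀ : G)).toMonoidHom
      then (⟨(a₀ : G)⁻¹ * a, hfib a₀ a₀.2 a a.2 h⟩ : ↥A₁) else 1)
    · intro a _
      exact Finset.mem_univ _
    · intro a ha b hb hab
      rw [Finset.mem_coe, Finset.mem_filter] at ha hb
      simp only [dif_pos ha.2, dif_pos hb.2, Subtype.mk.injEq] at hab
      exact Subtype.ext (mul_left_cancel hab)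
  have hB₁pos : 0 < Nat.card ↥B₁ := Nat.card_pos
  have hs : Ω.card ≤ 1 := by
    by_contra hcon
    have hcon' : 2 ≤ Ω.card := by omega
    have hlt : Ω.card < 4 ^ (Ω.card - 1) := by
      obtain ⟨m, hm⟩ : ∃ m, Ω.card = m + 1 := ⟨Ω.card - 1, by omega⟩
      rw [hm, Nat.add_sub_cancel]
      have h5 : m < 2 ^ m := Nat.lt_two_pow_self
      have h6 : 2 ^ m < 4 ^ m := Nat.pow_lt_pow_left (by norm_num) (by omega)
      omega
    have hchain : 4 ^ (Ω.card - 1) * (e * Nat.card ↥B₁) ≤ Ω.card * (e * Nat.card ↥B₁) := by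
      calc 4 ^ (Ω.card - 1) * (e * Nat.card ↥B₁)
          ≤ Nat.card ↥V'' * (Nat.card ↥W₁ * Nat.card ↥B₁) :=
            Nat.mul_le_mul hV''card (Nat.mul_le_mul_right _ hW₁card)
        _ = Nat.card ↥V'' * Nat.card ↥W₁ * Nat.card ↥B₁ := by ring
        _ ≤ Nat.card ↥V' * Nat.card ↥B₁ := Nat.mul_le_mul_right _ h3
        _ ≤ Nat.card ↥(V' ⊔ B₁) := h2
        _ ≤ Nat.card ↥A := h1
        _ ≤ Nat.card ↥A₁ * Ω.card := h4
        _ ≤ e * Nat.card ↥B₁ * Ω.card := Nat.mul_le_mul_right _ hA₁card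
        _ = Ω.card * (e * Nat.card ↥B₁) := by ring
    have := Nat.le_of_mul_le_mul_right hchain (Nat.mul_pos he hB₁pos)
    omega
  intro a ha
  apply mem_normalizer_of_map_conj_eq
  exact (Finset.card_le_one.mp hs) _ (hΩin a ha) _ hWΩ

example : Cfsg.Agent.H42.Sq.StCnt.{u} := cnt

end Cfsg.Agent.H37.Sq

#print axioms Cfsg.Agent.H37.Sq.cnt
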