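import Mathlib

/-!
# S4130, piece P3, core lemma (helper37)

An `r`-group `S` acting on an `r'`-group `W` such that the derived group of `S` acts trivially and
every element of `W` has a centralizer of index at most `r` in `S`: then the centralizer of `W`
in `S` has index at most `r`.
-/

set_option autoImplicit false

namespace Cfsg.Agent.H37.Sqf

variable {G : Type*} [Group G]

/-- the centralizer of one element -/
abbrev cz (w : G) : Subgroup G := Subgroup.centralizer ({w} : Set G)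

theorem mem_cz {w g : G} : g ∈ cz w ↔ g * w * g⁻¹ = w := by
  rw [cz, Subgroup.mem_centralizer_iff]
  constructor
  · intro h
    rw [← h w rfl]; group
  · intro h x hx
    rw [Set.mem_singleton_iff] at hx
    subst hx
    rw [mul_inv_eq_iff_eq_mul] at h
    exact h.symm

theorem inf_le_of_relIndex_eq {H K L : Subgroup G} (hle : H ⊓ L ≤ K)
    (h : K.relIndex L = H.relIndex L) (h0 : K.relIndex L ≠ 0) : K ⊓ L ≤ H := by
  have h1 : (H ⊓ L).relIndex (K ⊓ L) * (K ⊓ L).relIndex L = (H ⊓ L).relIndex L :=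
    Subgroup.relIndex_mul_relIndex _ _ _ (le_inf hle inf_le_right) inf_le_right
  rw [Subgroup.inf_relIndex_right, Subgroup.inf_relIndex_right, ← h] at h1
  have h2 : (H ⊓ L).relIndex (K ⊓ L) = 1 :=
    Nat.eq_of_mul_eq_mul_right (Nat.pos_of_ne_zero h0) (h1.trans (one_mul _).symm)
  rw [Subgroup.relIndex_eq_one] at h2
  exact h2.trans inf_le_left

theorem key_claim {r : ℕ} (hr : r.Prime) (S W : Subgroup G)
    (hS : IsPGroup r S)
    (ha : ∀ d ∈ W, ∀ k : ℕ, d ^ (r ^ k) = 1 → d = 1)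
    (hb : ∀ a ∈ S, ∀ b ∈ S, ∀ w ∈ W, (a * b) * w * (a * b)⁻¹ = (b * a) * w * (b * a)⁻¹)
    (hc : ∀ w ∈ W, (cz w).relIndex S ∣ r)
    (hn : ∀ s ∈ S, ∀ w ∈ W, s * w * s⁻¹ ∈ W)
    {w1 w2 : G} (hw1 : w1 ∈ W) (hw2 : w2 ∈ W)
    (h1 : (cz w1).relIndex S = r) (h2 : (cz w2).relIndex S = r) :
    cz w1 ⊓ S ≤ cz w2 := by
  by_contra hcon
  obtain ⟨b1, hb1, hb1'⟩ := SetLike.not_le_iff_exists.mp hcon
  have hb1S : b1 ∈ S := hb1.2
  have hb1c : b1 * w1 * b1⁻¹ = w1 := mem_cz.mp hb1.1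
  have hw3 : w1 * w2 ∈ W := W.mul_mem hw1 hw2
  have step1 : ∃ s ∈ S, s ∈ cz (w1 * w2) ∧ s ∉ cz w1 := by
    by_contra hno
    have hle : cz (w1 * w2) ⊓ S ≤ cz w1 ⊓ cz w2 := by
      intro s hs
      have hs1 : s ∈ cz w1 := by
        by_contra h'
        exact hno ⟨s, hs.2, hs.1, h'⟩
      refine Subgroup.mem_inf.mpr ⟨hs1, ?_⟩
      rw [mem_cz] at hs1 ⊢
      have h3 := mem_cz.mp hs.1
      have e : s * w2 * s⁻¹ = (s * w1 * s⁻¹)⁻¹ * (s * (w1 * w2) * s⁻¹) := by group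
      rw [e, hs1, h3]; group
    have hd1 : (cz w1 ⊓ cz w2).relIndex S ∣ r := by
      have := Subgroup.relIndex_dvd_of_le_left S hle
      rw [Subgroup.inf_relIndex_right] at this
      exact this.trans (hc _ hw3)
    have hd2 : r ∣ (cz w1 ⊓ cz w2).relIndex S := by
      have := Subgroup.relIndex_dvd_of_le_left S (inf_le_left : cz w1 ⊓ cz w2 ≤ cz w1)
      rwa [h1] at this
    have he : (cz w1 ⊓ cz w2).relIndex S = r := Nat.dvd_antisymm hd1 hd2
    have := inf_le_of_relIndex_eq (H := cz w1 ⊓ cz w2) (K := cz w1) (L := S)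
      (inf_le_left.trans inf_le_left) (h1.trans he.symm) (by rw [h1]; exact hr.ne_zero)
    exact hb1' (this hb1).2
  obtain ⟨s, hsS, hs3, hs1⟩ := step1
  have h3 : s * (w1 * w2) * s⁻¹ = w1 * w2 := mem_cz.mp hs3
  -- (E1)
  have E1 : s * w2 * s⁻¹ = (s * w1 * s⁻¹)⁻¹ * w1 * w2 := by
    have e : s * w2 * s⁻¹ = (s * w1 * s⁻¹)⁻¹ * (s * (w1 * w2) * s⁻¹) := by group
    rw [e, h3]; group
  -- (E2)
  have E2 : b1 * (s * w1 * s⁻¹) * b1⁻¹ = s * w1 * s⁻¹ := by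
    have e : b1 * (s * w1 * s⁻¹) * b1⁻¹ = (b1 * s) * w1 * (b1 * s)⁻¹ := by group
    rw [e, hb b1 hb1S s hsS w1 hw1]
    have e' : (s * b1) * w1 * (s * b1)⁻¹ = s * (b1 * w1 * b1⁻¹) * s⁻¹ := by group
    rw [e', hb1c]
  -- (E3)
  have E3 : s * (b1 * w2 * b1⁻¹) * s⁻¹ = (s * w1 * s⁻¹)⁻¹ * w1 * (b1 * w2 * b1⁻¹) := by
    have e : s * (b1 * w2 * b1⁻¹) * s⁻¹ = (s * b1) * w2 * (s * b1)⁻¹ := by group
    rw [e, hb s hsS b1 hb1S w2 hw2]
    have e' : (b1 * s) * w2 * (b1 * s)⁻¹ = b1 * (s * w2 * s⁻¹) * b1⁻¹ := by group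
    rw [e', E1]
    have e'' : b1 * ((s * w1 * s⁻¹)⁻¹ * w1 * w2) * b1⁻¹
        = (b1 * (s * w1 * s⁻¹) * b1⁻¹)⁻¹ * (b1 * w1 * b1⁻¹) * (b1 * w2 * b1⁻¹) := by group
    rw [e'', E2, hb1c]
  -- (E4)
  have E4 : s * (w2⁻¹ * (b1 * w2 * b1⁻¹)) * s⁻¹ = w2⁻¹ * (b1 * w2 * b1⁻¹) := by
    have e : s * (w2⁻¹ * (b1 * w2 * b1⁻¹)) * s⁻¹
        = (s * w2 * s⁻¹)⁻¹ * (s * (b1 * w2 * b1⁻¹) * s⁻¹) := by group
    rw [e, E1, E3]; group
  -- (E5)
  have E5 : cz w2 ⊓ S ≤ cz (w2⁻¹ * (b1 * w2 * b1⁻¹)) := by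
    intro b2 hb2
    have hb2c : b2 * w2 * b2⁻¹ = w2 := mem_cz.mp hb2.1
    rw [mem_cz]
    have e : b2 * (w2⁻¹ * (b1 * w2 * b1⁻¹)) * b2⁻¹
        = (b2 * w2 * b2⁻¹)⁻¹ * ((b2 * b1) * w2 * (b2 * b1)⁻¹) := by group
    rw [e, hb2c, hb b2 hb2.2 b1 hb1S w2 hw2]
    have e' : (b1 * b2) * w2 * (b1 * b2)⁻¹ = b1 * (b2 * w2 * b2⁻¹) * b1⁻¹ := by group
    rw [e', hb2c]
  -- (E6)
  have E6 : w2⁻¹ * (b1 * w2 * b1⁻¹) ∈ W := W.mul_mem (W.inv_mem hw2) (hn b1 hb1S w2 hw2)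
  -- (E7)
  have hs2 : s ∉ cz w2 := by
    intro hs2
    apply hs1
    rw [mem_cz] at hs2 ⊢
    have e : s * w1 * s⁻¹ = (s * (w1 * w2) * s⁻¹) * (s * w2 * s⁻¹)⁻¹ := by group
    rw [e, h3, hs2]; group
  have E7 : S ≤ cz (w2⁻¹ * (b1 * w2 * b1⁻¹)) := by
    rcases (Nat.dvd_prime hr).mp (hc _ E6) with h | h
    · exact Subgroup.relIndex_eq_one.mp h
    · exfalso
      have := inf_le_of_relIndex_eq (H := cz w2) (K := cz (w2⁻¹ * (b1 * w2 * b1⁻¹))) (L := S)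
        E5 (h.trans h2.symm) (by rw [h]; exact hr.ne_zero)
      exact hs2 (this ⟨mem_cz.mpr E4, hsS⟩)
  -- (E8)
  have E8 : b1 * (w2⁻¹ * (b1 * w2 * b1⁻¹)) * b1⁻¹ = w2⁻¹ * (b1 * w2 * b1⁻¹) :=
    mem_cz.mp (E7 hb1S)
  generalize hd : w2⁻¹ * (b1 * w2 * b1⁻¹) = d at E4 E5 E6 E7 E8
  have hconj : b1 * w2 * b1⁻¹ = w2 * d := by rw [← hd]; group
  have hcomm : Commute b1 d := by
    have : b1 * d = d * b1 := by
      have := E8
      rw [mul_inv_eq_iff_eq_mul] at this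
      exact this
    exact this
  have hpow : ∀ j : ℕ, b1 ^ j * w2 * (b1 ^ j)⁻¹ = w2 * d ^ j := by
    intro j
    induction j with
    | zero => simp
    | succ j ih =>
      have e : b1 ^ (j + 1) * w2 * (b1 ^ (j + 1))⁻¹ = b1 * (b1 ^ j * w2 * (b1 ^ j)⁻¹) * b1⁻¹ := by
        rw [pow_succ']; group
      rw [e, ih]
      have e' : b1 * (w2 * d ^ j) * b1⁻¹ = (b1 * w2 * b1⁻¹) * (b1 * d ^ j * b1⁻¹) := by group
      rw [e', hconj]
      have e'' : b1 * d ^ j * b1⁻¹ = d ^ j := by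
        rw [(hcomm.pow_right j).eq]; group
      rw [e'', mul_assoc, ← pow_succ']
  obtain ⟨k, hk⟩ := hS ⟨b1, hb1S⟩
  have hk' : b1 ^ (r ^ k) = 1 := by
    have := congrArg Subtype.val hk
    simpa using this
  have h5 := hpow (r ^ k)
  rw [hk'] at h5
  have h6 : d ^ (r ^ k) = 1 := by
    have : w2 = w2 * d ^ (r ^ k) := by simpa using h5
    exact (mul_eq_left.mp this.symm)
  have hd1 : d = 1 := ha d E6 k h6
  apply hb1'
  rw [mem_cz, hconj, hd1, mul_one]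

/-- **Core lemma**: an `r`-group `S` acting on an `r'`-group `W`, with the derived group of `S`
acting trivially, such that every element of `W` has a centralizer of index dividing `r` in `S`:
then the centralizer of `W` has index dividing `r` in `S`. -/
theorem core_lemma {r : ℕ} (hr : r.Prime) (S W : Subgroup G)
    (hS : IsPGroup r S)
    (ha : ∀ d ∈ W, ∀ k : ℕ, d ^ (r ^ k) = 1 → d = 1)
    (hb : ∀ a ∈ S, ∀ b ∈ S, ∀ w ∈ W, (a * b) * w * (a * b)⁻¹ = (b * a) * w * (b * a)⁻¹)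
    (hc : ∀ w ∈ W, (cz w).relIndex S ∣ r)
    (hn : ∀ s ∈ S, ∀ w ∈ W, s * w * s⁻¹ ∈ W) :
    (Subgroup.centralizer (W : Set G)).relIndex S ∣ r := by
  by_cases hall : ∀ w ∈ W, S ≤ cz w
  · have : S ≤ Subgroup.centralizer (W : Set G) := by
      intro s hs
      rw [Subgroup.mem_centralizer_iff]
      intro w hw
      have := mem_cz.mp (hall w hw hs)
      rw [mul_inv_eq_iff_eq_mul] at this
      exact this.symm
    rw [Subgroup.relIndex_eq_one.mpr this]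
    exact one_dvd _
  · simp only [not_forall] at hall
    obtain ⟨w1, hw1, hnot⟩ := hall
    have h1 : (cz w1).relIndex S = r := by
      rcases (Nat.dvd_prime hr).mp (hc w1 hw1) with h | h
      · exact absurd (Subgroup.relIndex_eq_one.mp h) hnot
      · exact h
    have hle : cz w1 ⊓ S ≤ Subgroup.centralizer (W : Set G) := by
      intro s hs
      rw [Subgroup.mem_centralizer_iff]
      intro w2 hw2
      have hmem : s ∈ cz w2 := by
        rcases (Nat.dvd_prime hr).mp (hc w2 hw2) with h | h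
        · exact Subgroup.relIndex_eq_one.mp h hs.2
        · exact key_claim hr S W hS ha hb hc hn hw1 hw2 h1 h hs
      have := mem_cz.mp hmem
      rw [mul_inv_eq_iff_eq_mul] at this
      exact this.symm
    have := Subgroup.relIndex_dvd_of_le_left S hle
    rw [Subgroup.inf_relIndex_right, h1] at this
    exact this

end Cfsg.Agent.H37.Sqf
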