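import Mathlib
import Cfsg.Agent.H4.TnDefs
import Cfsg.Agent.H37.TnCent

/-!
# TN-NORMAL (for S3805): the normal form of the `S₃ × S₃` configuration
-/

set_option autoImplicit false

namespace Cfsg.Agent.H37.Tn

universe u

theorem comm_inv {G : Type u} [Group G] {h c : G} (hc : h * c = c * h) : h * c⁻¹ = c⁻¹ * h := by
  calc h * c⁻¹ = c⁻¹ * (c * h) * c⁻¹ := by group
    _ = c⁻¹ * (h * c) * c⁻¹ := by rw [hc]
    _ = c⁻¹ * h := by group

theorem inv_inv_comm {G : Type u} [Group G] {h c : G} (hc : h * c = c⁻¹ * h) :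
    h * c⁻¹ = c * h := by
  calc h * c⁻¹ = c * (c⁻¹ * h) * c⁻¹ := by group
    _ = c * (h * c) * c⁻¹ := by rw [hc]
    _ = c * h := by group

/-- An involution normalizing the abelian group `T` but not centralizing it inverts a
nontrivial element of `T`. -/
theorem exists_inverted {G : Type u} [Group G] (T : Subgroup G)
    (h : G) (hN : ∀ t ∈ T, h * t * h⁻¹ ∈ T) (hh : h * h = 1)
    (hnc : ¬ ∀ t ∈ T, t * h = h * t) :
    ∃ e ∈ T, e ≠ 1 ∧ h * e = e⁻¹ * h := by
  have hinv : h⁻¹ = h := inv_eq_of_mul_eq_one_right hh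
  by_contra hcon
  apply hnc
  intro t ht
  by_contra hth
  apply hcon
  obtain ⟨w, hwdef⟩ : ∃ w, w = h * t * h⁻¹ := ⟨_, rfl⟩
  have hw : w ∈ T := by rw [hwdef]; exact hN t ht
  have hi : h * t = w * h := by rw [hwdef]; group
  have hii : h * w⁻¹ = t⁻¹ * h := by
    rw [hwdef]
    calc h * (h * t * h⁻¹)⁻¹ = (h * h) * t⁻¹ * h⁻¹ := by group
      _ = t⁻¹ * h := by rw [hh, one_mul, hinv]
  refine ⟨t * w⁻¹, T.mul_mem ht (T.inv_mem hw), ?_, ?_⟩
  · intro h1
    apply hth
    have h2 : t = w := by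
      calc t = t * w⁻¹ * w := by group
        _ = w := by rw [h1, one_mul]
    calc t * h = w * h := by rw [← h2]
      _ = h * t := hi.symm
  · calc h * (t * w⁻¹) = (h * t) * w⁻¹ := by group
      _ = (w * h) * w⁻¹ := by rw [hi]
      _ = w * (h * w⁻¹) := by group
      _ = w * (t⁻¹ * h) := by rw [hii]
      _ = (t * w⁻¹)⁻¹ * h := by group

/-- Joint eigenvectors for two commuting involutions. -/
theorem exists_joint {G : Type u} [Group G] (T : Subgroup G)
    (hcomm : ∀ s ∈ T, ∀ t ∈ T, s * t = t * s)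
    (h1 h2 : G) (hN2 : ∀ t ∈ T, h2 * t * h2⁻¹ ∈ T)
    (h22 : h2 * h2 = 1) (hc : h1 * h2 = h2 * h1)
    (e : G) (heT : e ∈ T) (he1 : e ≠ 1) (hinv : h1 * e = e⁻¹ * h1) :
    ∃ e' ∈ T, e' ≠ 1 ∧ h1 * e' = e'⁻¹ * h1 ∧
      (h2 * e' = e' * h2 ∨ h2 * e' = e'⁻¹ * h2) := by
  have h2inv : h2⁻¹ = h2 := inv_eq_of_mul_eq_one_right h22
  obtain ⟨w, hwdef⟩ : ∃ w, w = h2 * e * h2⁻¹ := ⟨_, rfl⟩
  have hwT : w ∈ T := by rw [hwdef]; exact hN2 e heT
  have hew : e * w = w * e := hcomm e heT w hwT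
  have a1 : h2 * e = w * h2 := by rw [hwdef]; group
  have a2 : h2 * w = e * h2 := by
    rw [hwdef]
    calc h2 * (h2 * e * h2⁻¹) = (h2 * h2) * e * h2⁻¹ := by group
      _ = e * h2 := by rw [h22, one_mul, h2inv]
  have a4 : h2 * e⁻¹ = w⁻¹ * h2 := by
    calc h2 * e⁻¹ = w⁻¹ * (w * h2) * e⁻¹ := by group
      _ = w⁻¹ * (h2 * e) * e⁻¹ := by rw [a1]
      _ = w⁻¹ * h2 := by group
  have a3 : h1 * w = w⁻¹ * h1 := by
    have a5 : h1 * w * h2 = w⁻¹ * h1 * h2 := by
      calc h1 * w * h2 = h1 * (w * h2) := by group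
        _ = h1 * (h2 * e) := by rw [a1]
        _ = (h1 * h2) * e := by group
        _ = (h2 * h1) * e := by rw [hc]
        _ = h2 * (h1 * e) := by group
        _ = h2 * (e⁻¹ * h1) := by rw [hinv]
        _ = (h2 * e⁻¹) * h1 := by group
        _ = (w⁻¹ * h2) * h1 := by rw [a4]
        _ = w⁻¹ * (h2 * h1) := by group
        _ = w⁻¹ * (h1 * h2) := by rw [hc]
        _ = w⁻¹ * h1 * h2 := by group
    exact mul_right_cancel a5
  by_cases hw1 : e * w = 1
  · have hw : w = e⁻¹ := by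
      calc w = e⁻¹ * (e * w) := by group
        _ = e⁻¹ := by rw [hw1, mul_one]
    refine ⟨e, heT, he1, hinv, Or.inr ?_⟩
    rw [a1, hw]
  · refine ⟨e * w, T.mul_mem heT hwT, hw1, ?_, Or.inl ?_⟩
    · calc h1 * (e * w) = (h1 * e) * w := by group
        _ = (e⁻¹ * h1) * w := by rw [hinv]
        _ = e⁻¹ * (h1 * w) := by group
        _ = e⁻¹ * (w⁻¹ * h1) := by rw [a3]
        _ = (w * e)⁻¹ * h1 := by group
        _ = (e * w)⁻¹ * h1 := by rw [hew]
    · calc h2 * (e * w) = (h2 * e) * w := by group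
        _ = (w * h2) * w := by rw [a1]
        _ = w * (h2 * w) := by group
        _ = w * (e * h2) := by rw [a2]
        _ = (w * e) * h2 := by group
        _ = (e * w) * h2 := by rw [hew]

theorem ncard_union_translate {G : Type u} [Group G] [Finite G] (S : Set G) (w : G)
    (h : ∀ s ∈ S, ∀ s' ∈ S, s ≠ s' * w) :
    Set.ncard (S ∪ (fun t => t * w) '' S) = 2 * Set.ncard S := by
  have hdisj : Disjoint S ((fun t => t * w) '' S) := by
    rw [Set.disjoint_left]
    rintro x hx ⟨t, ht, rfl⟩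
    exact h _ hx t ht rfl
  rw [Set.ncard_union_eq hdisj (Set.toFinite _) (Set.toFinite _),
    Set.ncard_image_of_injective _ (mul_left_injective w)]
  omega

/-- The configuration from a joint eigenbasis. -/
theorem cfg_of {G : Type u} [Group G] [Finite G] (T : Sylow 3 G) (a b u v : G)
    (hE : Cfsg.IsElementaryAbelian 3 (T : Subgroup G)) (hcard : Nat.card (T : Subgroup G) = 9)
    (hloc : ∀ t ∈ (T : Subgroup G), t ≠ 1 →
      Subgroup.centralizer ({t} : Set G) ≤ Subgroup.normalizer ((T : Subgroup G) : Set G))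
    (haT : a ∈ (T : Subgroup G)) (hbT : b ∈ (T : Subgroup G)) (ha1 : a ≠ 1) (hb1 : b ≠ 1)
    (huN : u ∈ Subgroup.normalizer ((T : Subgroup G) : Set G))
    (hvN : v ∈ Subgroup.normalizer ((T : Subgroup G) : Set G))
    (hu2 : u * u = 1) (hv2 : v * v = 1) (huv : u * v = v * u)
    (huT : u ∉ (T : Subgroup G)) (hvT : v ∉ (T : Subgroup G)) (huvT : u * v ∉ (T : Subgroup G))
    (hua : u * a = a * u) (hub : u * b = b⁻¹ * u) (hva : v * a = a⁻¹ * v) (hvb : v * b = b * v)
    (hN : ∀ g ∈ Subgroup.normalizer ((T : Subgroup G) : Set G),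
      ∃ t ∈ (T : Subgroup G), g = t ∨ g = t * u ∨ g = t * v ∨ g = t * (u * v)) :
    Cfsg.Agent.H4.Tn.Cfg G (T : Subgroup G) a b u v := by
  classical
  have hcomm : ∀ s ∈ (T : Subgroup G), ∀ t ∈ (T : Subgroup G), s * t = t * s := by
    intro s hs t ht
    have h1 := (isMulCommutative_iff.mp hE.1) ⟨s, hs⟩ ⟨t, ht⟩
    exact congrArg Subtype.val h1
  have ha3 : a ^ 3 = 1 := hE.2 a haT
  have hb3 : b ^ 3 = 1 := hE.2 b hbT
  have hp3 : Fact (Nat.Prime 3) := ⟨Nat.prime_three⟩
  have hoa : orderOf a = 3 := orderOf_eq_prime ha3 ha1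
  have hob : orderOf b = 3 := orderOf_eq_prime hb3 hb1
  have hab : Commute a b := hcomm a haT b hbT
  -- independence
  have hindep : ∀ i j : ℕ, a ^ i * b ^ j = 1 → 3 ∣ i ∧ 3 ∣ j := by
    intro i j hij
    have h1 : u * a ^ i = a ^ i * u := ((show Commute u a from hua).pow_right i).eq
    have h2 : u * b ^ j = (b⁻¹) ^ j * u := ((show SemiconjBy u b b⁻¹ from hub).pow_right j).eq
    have h3 : a ^ i * (b⁻¹) ^ j = 1 := by
      have h4 : (a ^ i * (b⁻¹) ^ j) * u = 1 * u := by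
        calc (a ^ i * (b⁻¹) ^ j) * u = a ^ i * ((b⁻¹) ^ j * u) := by simp only [mul_assoc]
          _ = a ^ i * (u * b ^ j) := by rw [h2]
          _ = (a ^ i * u) * b ^ j := by simp only [mul_assoc]
          _ = (u * a ^ i) * b ^ j := by rw [h1]
          _ = u * (a ^ i * b ^ j) := by simp only [mul_assoc]
          _ = 1 * u := by rw [hij, mul_one, one_mul]
      exact mul_right_cancel h4
    have h5 : b ^ j = (b⁻¹) ^ j := mul_left_cancel (hij.trans h3.symm)
    have h6 : b ^ (j + j) = 1 := by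
      rw [pow_add]
      calc b ^ j * b ^ j = (b⁻¹) ^ j * b ^ j := by rw [← h5]
        _ = 1 := by rw [inv_pow, inv_mul_cancel]
    have h7 : 3 ∣ j + j := by rw [← hob]; exact orderOf_dvd_of_pow_eq_one h6
    have h8 : 3 ∣ j := by omega
    have h9 : b ^ j = 1 := by
      obtain ⟨m, rfl⟩ := h8
      rw [pow_mul, hb3, one_pow]
    rw [h9, mul_one] at hij
    have h10 : 3 ∣ i := by rw [← hoa]; exact orderOf_dvd_of_pow_eq_one hij
    exact ⟨h10, h8⟩
  -- the subgroup of all `a ^ i * b ^ j`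
  obtain ⟨K, hKmem⟩ : ∃ K : Subgroup G, ∀ t : G, t ∈ K ↔ ∃ i j : ℕ, t = a ^ i * b ^ j := by
    refine ⟨{ carrier := {t | ∃ i j : ℕ, t = a ^ i * b ^ j}
              mul_mem' := ?_
              one_mem' := ⟨0, 0, by simp⟩
              inv_mem' := ?_ }, fun t => Iff.rfl⟩
    · rintro _ _ ⟨i, j, rfl⟩ ⟨i', j', rfl⟩
      refine ⟨i + i', j + j', ?_⟩
      have hc : b ^ j * a ^ i' = a ^ i' * b ^ j := ((hab.pow_pow i' j).symm).eq
      calc a ^ i * b ^ j * (a ^ i' * b ^ j') = a ^ i * (b ^ j * a ^ i') * b ^ j' := by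
            simp only [mul_assoc]
        _ = a ^ i * (a ^ i' * b ^ j) * b ^ j' := by rw [hc]
        _ = a ^ (i + i') * b ^ (j + j') := by rw [pow_add, pow_add]; simp only [mul_assoc]
    · rintro _ ⟨i, j, rfl⟩
      refine ⟨2 * i, 2 * j, ?_⟩
      apply inv_eq_of_mul_eq_one_right
      have hc : b ^ j * a ^ (2 * i) = a ^ (2 * i) * b ^ j := ((hab.pow_pow (2 * i) j).symm).eq
      have e1 : a ^ i * a ^ (2 * i) = 1 := by
        rw [← pow_add, show i + 2 * i = 3 * i by ring, pow_mul, ha3, one_pow]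
      have e2 : b ^ j * b ^ (2 * j) = 1 := by
        rw [← pow_add, show j + 2 * j = 3 * j by ring, pow_mul, hb3, one_pow]
      calc a ^ i * b ^ j * (a ^ (2 * i) * b ^ (2 * j))
          = a ^ i * (b ^ j * a ^ (2 * i)) * b ^ (2 * j) := by simp only [mul_assoc]
        _ = a ^ i * (a ^ (2 * i) * b ^ j) * b ^ (2 * j) := by rw [hc]
        _ = (a ^ i * a ^ (2 * i)) * (b ^ j * b ^ (2 * j)) := by simp only [mul_assoc]
        _ = 1 := by rw [e1, e2, one_mul]
  have hKT : K ≤ (T : Subgroup G) := by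
    intro t ht
    obtain ⟨i, j, rfl⟩ := (hKmem t).mp ht
    exact Subgroup.mul_mem _ (Subgroup.pow_mem _ haT i) (Subgroup.pow_mem _ hbT j)
  have haK : a ∈ K := (hKmem a).mpr ⟨1, 0, by simp⟩
  have hbK : b ∈ K := (hKmem b).mpr ⟨0, 1, by simp⟩
  have hAK : Subgroup.zpowers a ≤ K := Subgroup.zpowers_le.mpr haK
  have hbA : b ∉ Subgroup.zpowers a := by
    intro hb
    have hle : Subgroup.zpowers a ≤ Subgroup.centralizer ({u} : Set G) := by
      rw [Subgroup.zpowers_le, Subgroup.mem_centralizer_iff]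
      intro h hh
      rw [Set.mem_singleton_iff] at hh
      rw [hh]; exact hua
    have h1 := (Subgroup.mem_centralizer_iff.mp (hle hb)) u (Set.mem_singleton _)
    rw [hub] at h1
    have h2 : b⁻¹ = b := mul_right_cancel h1
    have h3 : b ^ 2 = 1 := by
      rw [pow_two]
      calc b * b = b⁻¹ * b := by rw [h2]
        _ = 1 := inv_mul_cancel b
    have h4 : 3 ∣ 2 := by rw [← hob]; exact orderOf_dvd_of_pow_eq_one h3
    omega
  have hcA : Nat.card (Subgroup.zpowers a) = 3 := by rw [Nat.card_zpowers, hoa]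
  have hcK : Nat.card K = 9 := by
    have d1 : 3 ∣ Nat.card K := hcA ▸ Subgroup.card_dvd_of_le hAK
    have d2 : Nat.card K ∣ 9 := hcard ▸ Subgroup.card_dvd_of_le hKT
    have d3 : Nat.card K ≠ 3 := by
      intro h3
      have h4 : Subgroup.zpowers a = K := Subgroup.eq_of_le_of_card_ge hAK (by rw [h3, hcA])
      exact hbA (h4 ▸ hbK)
    have d4 : Nat.card K ≤ 9 := Nat.le_of_dvd (by norm_num) d2
    obtain ⟨k, hk⟩ : ∃ k, k = Nat.card K := ⟨_, rfl⟩
    rw [← hk] at d1 d2 d3 d4 ⊢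
    interval_cases k <;> omega
  have hKeq : K = (T : Subgroup G) := Subgroup.eq_of_le_of_card_ge hKT (by rw [hcK, hcard])
  -- the order of the normalizer
  have hTN : (T : Subgroup G) ≤ Subgroup.normalizer ((T : Subgroup G) : Set G) :=
    Subgroup.le_normalizer
  have huinv : u⁻¹ = u := inv_eq_of_mul_eq_one_right hu2
  have hNset : ((Subgroup.normalizer ((T : Subgroup G) : Set G) : Subgroup G) : Set G) =
      (((T : Subgroup G) : Set G) ∪ (fun t => t * u) '' ((T : Subgroup G) : Set G)) ∪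
        (fun t => t * v) '' (((T : Subgroup G) : Set G) ∪
          (fun t => t * u) '' ((T : Subgroup G) : Set G)) := by
    apply Set.eq_of_subset_of_subset
    · intro g hg
      obtain ⟨t, ht, h | h | h | h⟩ := hN g hg
      · left; left; rw [h]; exact ht
      · left; right; exact ⟨t, ht, h.symm⟩
      · right; exact ⟨t, Or.inl ht, h.symm⟩
      · right
        refine ⟨t * u, Or.inr ⟨t, ht, rfl⟩, ?_⟩
        rw [h]; exact mul_assoc t u v
    · rintro g ((ht | ⟨t, ht, rfl⟩) | ⟨s, (hs | ⟨t, ht, rfl⟩), rfl⟩)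
      · exact hTN ht
      · exact Subgroup.mul_mem _ (hTN ht) huN
      · exact Subgroup.mul_mem _ (hTN hs) hvN
      · exact Subgroup.mul_mem _ (Subgroup.mul_mem _ (hTN ht) huN) hvN
  have hdisj2 : ∀ s ∈ (((T : Subgroup G) : Set G) ∪
        (fun t => t * u) '' ((T : Subgroup G) : Set G)),
      ∀ s' ∈ (((T : Subgroup G) : Set G) ∪ (fun t => t * u) '' ((T : Subgroup G) : Set G)),
        s ≠ s' * v := by
    rintro s (hs | ⟨t1, ht1, rfl⟩) s' (hs' | ⟨t2, ht2, rfl⟩) heq
    · apply hvT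
      have h1 : v = s'⁻¹ * s := by rw [heq]; group
      rw [h1]; exact Subgroup.mul_mem _ (Subgroup.inv_mem _ hs') hs
    · apply huvT
      have heq' : s = t2 * u * v := heq
      have h1 : u * v = t2⁻¹ * s := by rw [heq']; group
      rw [h1]; exact Subgroup.mul_mem _ (Subgroup.inv_mem _ ht2) hs
    · apply huvT
      have heq' : t1 * u = s' * v := heq
      have h1 : s'⁻¹ * t1 = v * u⁻¹ := by
        calc s'⁻¹ * t1 = s'⁻¹ * (t1 * u) * u⁻¹ := by group
          _ = s'⁻¹ * (s' * v) * u⁻¹ := by rw [heq']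
          _ = v * u⁻¹ := by group
      have h2 : u * v = s'⁻¹ * t1 := by rw [h1, huinv, huv]
      rw [h2]; exact Subgroup.mul_mem _ (Subgroup.inv_mem _ hs') ht1
    · apply hvT
      have heq' : t1 * u = t2 * u * v := heq
      have h1 : t2⁻¹ * t1 = u * v * u⁻¹ := by
        calc t2⁻¹ * t1 = t2⁻¹ * (t1 * u) * u⁻¹ := by group
          _ = t2⁻¹ * (t2 * u * v) * u⁻¹ := by rw [heq']
          _ = u * v * u⁻¹ := by group
      have h2 : v = t2⁻¹ * t1 := by rw [h1, huv]; group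
      rw [h2]; exact Subgroup.mul_mem _ (Subgroup.inv_mem _ ht2) ht1
  have hcardN : Nat.card (Subgroup.normalizer ((T : Subgroup G) : Set G)) = 36 := by
    calc Nat.card (Subgroup.normalizer ((T : Subgroup G) : Set G))
        = Set.ncard ((Subgroup.normalizer ((T : Subgroup G) : Set G) : Subgroup G) : Set G) :=
          Nat.card_coe_set_eq _
      _ = 36 := by
          rw [hNset, ncard_union_translate _ v hdisj2, ncard_union_coset (T : Subgroup G) u huT,
            hcard]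
  exact
    { syl := ⟨T, rfl⟩
      cardT := hcard
      comm := hcomm
      aT := haT
      bT := hbT
      a3 := ha3
      b3 := hb3
      Telts := fun t ht => (hKmem t).mp (hKeq ▸ ht)
      indep := hindep
      u2 := hu2
      v2 := hv2
      uv := huv
      ua := hua
      ub := hub
      va := hva
      vb := hvb
      uN := huN
      vN := hvN
      Nelts := hN
      cardN := hcardN
      loc := hloc }

theorem normal : Cfsg.Agent.H4.Tn.StNormal.{u} := by
  intro G _ _ T x y hE hcard0 hC hloc hxN hyN hx2 hy2 hxy hxT hyT hxyT hN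
  classical
  have hcard : Nat.card (T : Subgroup G) = 9 := hcard0
  have hcomm : ∀ s ∈ (T : Subgroup G), ∀ t ∈ (T : Subgroup G), s * t = t * s := by
    intro s hs t ht
    have h1 := (isMulCommutative_iff.mp hE.1) ⟨s, hs⟩ ⟨t, ht⟩
    exact congrArg Subtype.val h1
  have hnx : ∀ t ∈ (T : Subgroup G), x * t * x⁻¹ ∈ (T : Subgroup G) :=
    fun t ht => (Subgroup.mem_normalizer_iff.mp hxN t).mp ht
  have hny : ∀ t ∈ (T : Subgroup G), y * t * y⁻¹ ∈ (T : Subgroup G) :=
    fun t ht => (Subgroup.mem_normalizer_iff.mp hyN t).mp ht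
  have hxyN : x * y ∈ Subgroup.normalizer ((T : Subgroup G) : Set G) :=
    Subgroup.mul_mem _ hxN hyN
  have hnxy : ∀ t ∈ (T : Subgroup G), (x * y) * t * (x * y)⁻¹ ∈ (T : Subgroup G) :=
    fun t ht => (Subgroup.mem_normalizer_iff.mp hxyN t).mp ht
  have hxy2 : (x * y) * (x * y) = 1 := by
    calc (x * y) * (x * y) = x * (y * x) * y := by simp only [mul_assoc]
      _ = x * (x * y) * y := by rw [hxy]
      _ = (x * x) * (y * y) := by simp only [mul_assoc]
      _ = 1 := by rw [hx2, hy2, one_mul]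
  have hxyx : (x * y) * x = x * (x * y) := by
    calc (x * y) * x = x * (y * x) := mul_assoc x y x
      _ = x * (x * y) := by rw [hxy]
  -- faithfulness
  have hfaith : ∀ h : G, h ∉ (T : Subgroup G) → ¬ ∀ t ∈ (T : Subgroup G), t * h = h * t := by
    intro h hh hcon
    have h1 : h ∈ Subgroup.centralizer ((T : Subgroup G) : Set G) :=
      Subgroup.mem_centralizer_iff.mpr hcon
    rw [hC] at h1
    exact hh h1
  obtain ⟨e1, he1T, he11, he1x⟩ := exists_inverted (T : Subgroup G) x hnx hx2 (hfaith x hxT)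
  obtain ⟨e2, he2T, he21, he2y⟩ := exists_inverted (T : Subgroup G) y hny hy2 (hfaith y hyT)
  obtain ⟨e3, he3T, he31, he3xy⟩ :=
    exists_inverted (T : Subgroup G) (x * y) hnxy hxy2 (hfaith (x * y) hxyT)
  obtain ⟨f1, hf1T, hf11, hf1x, hf1y⟩ :=
    exists_joint (T : Subgroup G) hcomm x y hny hy2 hxy e1 he1T he11 he1x
  obtain ⟨f2, hf2T, hf21, hf2y, hf2x⟩ :=
    exists_joint (T : Subgroup G) hcomm y x hnx hx2 hxy.symm e2 he2T he21 he2y
  obtain ⟨f3, hf3T, hf31, hf3xy, hf3x⟩ :=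
    exists_joint (T : Subgroup G) hcomm (x * y) x hnx hx2 hxyx e3 he3T he31 he3xy
  -- the three final configurations
  have F1 : ∀ a b : G, a ∈ (T : Subgroup G) → b ∈ (T : Subgroup G) → a ≠ 1 → b ≠ 1 →
      x * a = a * x → y * a = a⁻¹ * y → x * b = b⁻¹ * x → y * b = b * y →
      ∃ a b u v : G, Cfsg.Agent.H4.Tn.Cfg G (T : Subgroup G) a b u v := by
    intro a b haT hbT ha1 hb1 hxa hya hxb hyb
    exact ⟨a, b, x, y, cfg_of T a b x y hE hcard hloc haT hbT ha1 hb1 hxN hyN hx2 hy2 hxy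
      hxT hyT hxyT hxa hxb hya hyb hN⟩
  have F2 : ∀ a b : G, a ∈ (T : Subgroup G) → b ∈ (T : Subgroup G) → a ≠ 1 → b ≠ 1 →
      x * a = a * x → y * a = a⁻¹ * y → x * b = b⁻¹ * x → y * b = b⁻¹ * y →
      ∃ a b u v : G, Cfsg.Agent.H4.Tn.Cfg G (T : Subgroup G) a b u v := by
    intro a b haT hbT ha1 hb1 hxa hya hxb hyb
    have e1 : x * (x * y) = y := by rw [← mul_assoc, hx2, one_mul]
    refine ⟨a, b, x, x * y, cfg_of T a b x (x * y) hE hcard hloc haT hbT ha1 hb1 hxN hxyN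
      hx2 hxy2 hxyx.symm hxT hxyT ?_ hxa hxb ?_ ?_ ?_⟩
    · rw [e1]; exact hyT
    · calc x * y * a = x * (y * a) := mul_assoc x y a
        _ = x * (a⁻¹ * y) := by rw [hya]
        _ = (x * a⁻¹) * y := (mul_assoc x a⁻¹ y).symm
        _ = (a⁻¹ * x) * y := by rw [comm_inv hxa]
        _ = a⁻¹ * (x * y) := mul_assoc a⁻¹ x y
    · calc x * y * b = x * (y * b) := mul_assoc x y b
        _ = x * (b⁻¹ * y) := by rw [hyb]
        _ = (x * b⁻¹) * y := (mul_assoc x b⁻¹ y).symm
        _ = (b * x) * y := by rw [inv_inv_comm hxb]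
        _ = b * (x * y) := mul_assoc b x y
    · intro g hg
      obtain ⟨t, ht, h | h | h | h⟩ := hN g hg
      · exact ⟨t, ht, Or.inl h⟩
      · exact ⟨t, ht, Or.inr (Or.inl h)⟩
      · refine ⟨t, ht, Or.inr (Or.inr (Or.inr ?_))⟩
        rw [e1]; exact h
      · exact ⟨t, ht, Or.inr (Or.inr (Or.inl h))⟩
  have F3 : ∀ a b : G, a ∈ (T : Subgroup G) → b ∈ (T : Subgroup G) → a ≠ 1 → b ≠ 1 →
      x * a = a⁻¹ * x → y * a = a * y → x * b = b⁻¹ * x → y * b = b⁻¹ * y →
      ∃ a b u v : G, Cfsg.Agent.H4.Tn.Cfg G (T : Subgroup G) a b u v := by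
    intro a b haT hbT ha1 hb1 hxa hya hxb hyb
    have e1 : y * (x * y) = x := by
      calc y * (x * y) = (y * x) * y := (mul_assoc y x y).symm
        _ = (x * y) * y := by rw [hxy]
        _ = x * (y * y) := mul_assoc x y y
        _ = x := by rw [hy2, mul_one]
    have e2 : y * (x * y) = x * y * y := by
      calc y * (x * y) = (y * x) * y := (mul_assoc y x y).symm
        _ = x * y * y := by rw [hxy]
    refine ⟨a, b, y, x * y, cfg_of T a b y (x * y) hE hcard hloc haT hbT ha1 hb1 hyN hxyN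
      hy2 hxy2 e2 hyT hxyT ?_ hya hyb ?_ ?_ ?_⟩
    · rw [e1]; exact hxT
    · calc x * y * a = x * (y * a) := mul_assoc x y a
        _ = x * (a * y) := by rw [hya]
        _ = (x * a) * y := (mul_assoc x a y).symm
        _ = (a⁻¹ * x) * y := by rw [hxa]
        _ = a⁻¹ * (x * y) := mul_assoc a⁻¹ x y
    · calc x * y * b = x * (y * b) := mul_assoc x y b
        _ = x * (b⁻¹ * y) := by rw [hyb]
        _ = (x * b⁻¹) * y := (mul_assoc x b⁻¹ y).symm
        _ = (b * x) * y := by rw [inv_inv_comm hxb]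
        _ = b * (x * y) := mul_assoc b x y
    · intro g hg
      obtain ⟨t, ht, h | h | h | h⟩ := hN g hg
      · exact ⟨t, ht, Or.inl h⟩
      · refine ⟨t, ht, Or.inr (Or.inr (Or.inr ?_))⟩
        rw [e1]; exact h
      · exact ⟨t, ht, Or.inr (Or.inl h)⟩
      · exact ⟨t, ht, Or.inr (Or.inr (Or.inl h))⟩
  rcases hf1y with h1 | h1
  · rcases hf2x with h2 | h2
    · exact F1 f2 f1 hf2T hf1T hf21 hf11 h2 hf2y hf1x h1
    · exact F3 f1 f2 hf1T hf2T hf11 hf21 hf1x h1 h2 hf2y
  · rcases hf2x with h2 | h2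
    · exact F2 f2 f1 hf2T hf1T hf21 hf11 h2 hf2y hf1x h1
    · rcases hf3x with h3 | h3
      · have hy3 : y * f3 = f3⁻¹ * y := by
          have h4 : x * (y * f3) = x * (f3⁻¹ * y) := by
            calc x * (y * f3) = (x * y) * f3 := (mul_assoc x y f3).symm
              _ = f3⁻¹ * (x * y) := hf3xy
              _ = (f3⁻¹ * x) * y := (mul_assoc f3⁻¹ x y).symm
              _ = (x * f3⁻¹) * y := by rw [comm_inv h3]
              _ = x * (f3⁻¹ * y) := mul_assoc x f3⁻¹ y
          exact mul_left_cancel h4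
        exact F2 f3 f1 hf3T hf1T hf31 hf11 h3 hy3 hf1x h1
      · have hy3 : y * f3 = f3 * y := by
          have h4 : x * (y * f3) = x * (f3 * y) := by
            calc x * (y * f3) = (x * y) * f3 := (mul_assoc x y f3).symm
              _ = f3⁻¹ * (x * y) := hf3xy
              _ = (f3⁻¹ * x) * y := (mul_assoc f3⁻¹ x y).symm
              _ = (x * f3) * y := by rw [h3]
              _ = x * (f3 * y) := mul_assoc x f3 y
          exact mul_left_cancel h4
        exact F3 f3 f1 hf3T hf1T hf31 hf11 h3 hy3 hf1x h1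

example : Cfsg.Agent.H4.Tn.StNormal.{u} := Cfsg.Agent.H37.Tn.normal

end Cfsg.Agent.H37.Tn
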