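import Cfsg.Agent.Lib.Helper30.Trans
import Cfsg.Agent.Lib.Helper30.FixedPoints

/-!
# Bender–Glauberman §7, Theorem 7.4 (the proof of helper30 from `Lib.Helper30.Trans2`)

A copy of the first half of `Cfsg.Agent.Lib.Helper30.Trans2` (the proof of S1394) in a
separate namespace, so that it can be used together with `Cfsg.Agent.S1396`: the modules
`Lib.Helper30.Trans2` and `Lib.Helper30.TransLocal` both declare
`Cfsg.Agent.Lib.Helper30.card_sup_le_of_le_normalizer` and cannot be imported together.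
(helper37)
-/

set_option autoImplicit false

namespace Cfsg.Agent.H37.T2c

open Cfsg Cfsg.Agent.Lib.Helper30
open scoped Pointwise

variable {G : Type*} [Group G]

/-! ### Centralizers of non-identity elements are proper -/

theorem minSimple_centralizer_singleton_ne_top (hG : IsMinSimpleOddOrder G) {b : G} (hb : b ≠ 1) :
    Subgroup.centralizer ({b} : Set G) ≠ ⊤ := by
  intro h
  have := hG.2.1
  have hbc : b ∈ Subgroup.center G := by
    rw [Subgroup.mem_center_iff]
    intro g
    have hg : g ∈ Subgroup.centralizer ({b} : Set G) := h ▸ Subgroup.mem_top g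
    rw [Subgroup.mem_centralizer_iff] at hg
    exact (hg b rfl).symm
  rcases (inferInstance : (Subgroup.center G).Normal).eq_bot_or_eq_top with h1 | h1
  · rw [h1, Subgroup.mem_bot] at hbc
    exact hb hbc
  · exact hG.2.2.1 (Subgroup.center_eq_top_iff.mp h1)

/-! ### The centre of a subgroup, as a subgroup of the ambient group -/

theorem isMulCommutative_inf_centralizer (Q : Subgroup G) :
    IsMulCommutative ↥(Q ⊓ Subgroup.centralizer (Q : Set G)) := by
  refine ⟨⟨fun a b => ?_⟩⟩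
  have ha : (a : G) ∈ Q := (Subgroup.mem_inf.mp a.2).1
  have hb : (b : G) ∈ Subgroup.centralizer (Q : Set G) := (Subgroup.mem_inf.mp b.2).2
  rw [Subgroup.mem_centralizer_iff] at hb
  exact Subtype.ext (hb a ha)

theorem inf_centralizer_ne_bot [Finite G] {p : ℕ} [Fact p.Prime] {Q : Subgroup G}
    (hQ : IsPGroup p Q) (hQ1 : Q ≠ ⊥) : Q ⊓ Subgroup.centralizer (Q : Set G) ≠ ⊥ := by
  have : Nontrivial Q := (Subgroup.nontrivial_iff_ne_bot Q).mpr hQ1
  have hnt : Nontrivial (Subgroup.center Q) := hQ.center_nontrivial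
  obtain ⟨z, hz⟩ := exists_ne (1 : Subgroup.center Q)
  intro h
  apply hz
  have hz' : ((z : Q) : G) ∈ Q ⊓ Subgroup.centralizer (Q : Set G) := by
    refine Subgroup.mem_inf.mpr ⟨(z : Q).2, ?_⟩
    rw [Subgroup.mem_centralizer_iff]
    intro x hx
    have := Subgroup.mem_center_iff.mp z.2 ⟨x, hx⟩
    exact congrArg Subtype.val this
  rw [h, Subgroup.mem_bot] at hz'
  exact Subtype.ext (Subtype.ext hz')

theorem normalizer_le_normalizer_centralizer (Q : Subgroup G) :
    Subgroup.normalizer (Q : Set G) ≤ Subgroup.normalizer (Subgroup.centralizer (Q : Set G) : Set G) := by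
  intro g hg
  rw [Subgroup.mem_normalizer_iff]
  have key : ∀ g : G, g ∈ Subgroup.normalizer (Q : Set G) → ∀ z ∈ Subgroup.centralizer (Q : Set G),
      g * z * g⁻¹ ∈ Subgroup.centralizer (Q : Set G) := by
    intro g hg z hz
    rw [Subgroup.mem_centralizer_iff] at hz ⊢
    intro x hx
    have hx' : g⁻¹ * x * g ∈ Q := (Subgroup.mem_normalizer_iff''.mp hg x).mp hx
    have := hz _ hx'
    calc x * (g * z * g⁻¹) = g * ((g⁻¹ * x * g) * z) * g⁻¹ := by group
      _ = g * (z * (g⁻¹ * x * g)) * g⁻¹ := by rw [this]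
      _ = g * z * g⁻¹ * x := by group
  intro z
  constructor
  · exact key g hg z
  · intro hz
    have := key g⁻¹ (Subgroup.inv_mem _ hg) _ hz
    simpa [mul_assoc] using this

theorem normalizer_le_normalizer_inf_centralizer (Q : Subgroup G) :
    Subgroup.normalizer (Q : Set G)
      ≤ Subgroup.normalizer ((Q ⊓ Subgroup.centralizer (Q : Set G) : Subgroup G) : Set G) :=
  (le_inf le_rfl (normalizer_le_normalizer_centralizer Q)).trans
    Subgroup.inf_normalizer_le_normalizer_inf

/-! ### Extracting elementary abelian subgroups from rank hypotheses -/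

theorem exists_elementary_of_not_pRankLE {p k : ℕ} {Z : Subgroup G}
    (h : ¬ PRankLE p k ↥Z) :
    ∃ B : Subgroup G, B ≤ Z ∧ (∀ a ∈ B, ∀ b ∈ B, a * b = b * a) ∧ (∀ b ∈ B, b ^ p = 1) ∧
      p ^ k < Nat.card B := by
  unfold PRankLE at h
  push Not at h
  obtain ⟨B, hBc, hBp, hBcard⟩ := h
  refine ⟨B.map Z.subtype, ?_, ?_, ?_, ?_⟩
  · rintro x ⟨y, -, rfl⟩
    exact y.2
  · rintro a ⟨a', ha', rfl⟩ b ⟨b', hb', rfl⟩
    have := hBc.is_comm.comm ⟨a', ha'⟩ ⟨b', hb'⟩
    have h2 : a' * b' = b' * a' := congrArg Subtype.val this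
    exact congrArg Subtype.val h2
  · rintro b ⟨b', hb', rfl⟩
    have := hBp b' hb'
    exact congrArg Subtype.val this
  · rw [Subgroup.card_map_of_injective Z.subtype_injective]
    exact hBcard

theorem exists_elementary_of_not_rankLE {k : ℕ} {Z : Subgroup G} (h : ¬ RankLE k ↥Z) :
    ∃ p : ℕ, p.Prime ∧ ∃ B : Subgroup G, B ≤ Z ∧ (∀ a ∈ B, ∀ b ∈ B, a * b = b * a) ∧
      (∀ b ∈ B, b ^ p = 1) ∧ p ^ k < Nat.card B := by
  unfold RankLE at h
  push Not at h
  obtain ⟨p, hp, hp'⟩ := h
  exact ⟨p, hp, exists_elementary_of_not_pRankLE hp'⟩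

/-- A nontrivial subgroup of exponent `p` inside `A` forces `p ∣ #A`. -/
theorem dvd_card_of_exponent_prime [Finite G] {p : ℕ} [Fact p.Prime] {A B : Subgroup G}
    (hBA : B ≤ A) (hBp : ∀ b ∈ B, b ^ p = 1) (hB1 : 1 < Nat.card B) : p ∣ Nat.card A := by
  have hB : B ≠ ⊥ := by
    intro h
    rw [h, Subgroup.card_bot] at hB1
    exact lt_irrefl _ hB1
  obtain ⟨x, hx⟩ := Subgroup.ne_bot_iff_exists_ne_one.mp hB
  have hx1 : (x : G) ≠ 1 := fun h => hx (Subtype.ext h)
  have hxo : orderOf (x : G) = p := orderOf_eq_prime (hBp x x.2) hx1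
  have : orderOf (⟨x, hBA x.2⟩ : A) = p := by rw [Subgroup.orderOf_mk]; exact hxo
  rw [← this]
  exact orderOf_dvd_natCard _

/-! ### Theorem 7.4 -/

/-- Bender–Glauberman Theorem 7.4. -/
theorem trans_of_rank_two (hG : IsMinSimpleOddOrder G) [Finite G] {A : Subgroup G}
    (hA : TransitivityHypothesis A)
    (hZ : ¬ RankLE 1 ↥(A ⊓ Subgroup.centralizer (A : Set G)))
    {q : ℕ} (hq : q.Prime) (hqA : ¬ q ∣ Nat.card A)
    (hqC : q ∣ Nat.card (Subgroup.centralizer (A : Set G))) :
    ∀ Q₁ ∈ maxInvSubgroups ⊤ A {q}, ∀ Q₂ ∈ maxInvSubgroups ⊤ A {q},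
      ∃ k ∈ piCoreOf (primesNotDvd (Nat.card A)) (Subgroup.centralizer (A : Set G)),
        Q₂ = Q₁.map (MulAut.conj k).toMonoidHom := by
  have : Fact q.Prime := ⟨hq⟩
  set K := piCoreOf (primesNotDvd (Nat.card A)) (Subgroup.centralizer (A : Set G)) with hK
  obtain ⟨p, hp, B, hBZ, hBc, hBp, hBcard⟩ := exists_elementary_of_not_rankLE hZ
  have : Fact p.Prime := ⟨hp⟩
  rw [pow_one] at hBcard
  have hBA : B ≤ A := hBZ.trans inf_le_left
  have hBCA : B ≤ Subgroup.centralizer (A : Set G) := hBZ.trans inf_le_right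
  have hpA : p ∣ Nat.card A := dvd_card_of_exponent_prime hBA hBp (lt_trans hp.one_lt hBcard)
  have hpq : p ≠ q := fun h => hqA (h ▸ hpA)
  -- a nontrivial `A`-invariant `q`-subgroup of `C_G(A)`
  obtain ⟨c, hc⟩ := exists_prime_orderOf_dvd_card' (G := Subgroup.centralizer (A : Set G)) q hqC
  have hcG : orderOf (c : G) = q := by rw [Subgroup.orderOf_coe]; exact hc
  have hc1 : (c : G) ≠ 1 := by
    intro h
    rw [h, orderOf_one] at hcG
    exact hq.one_lt.ne hcG
  have hcA : ∀ a ∈ A, a * (c : G) = (c : G) * a := fun a ha =>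
    Subgroup.mem_centralizer_iff.mp c.2 a ha
  have hS : Subgroup.zpowers (c : G) ∈ invSubgroups ⊤ A {q} := by
    refine ⟨le_top, ?_, ?_⟩
    · have : Nat.card (Subgroup.zpowers (c : G)) = q ^ 1 := by rw [Nat.card_zpowers, hcG, pow_one]
      exact isPi_singleton_of_isPGroup (IsPGroup.of_card this)
    · rw [Subgroup.le_normalizer_iff]
      intro a ha k hk
      have : a * k * a⁻¹ = k := by
        have hk' : k ∈ Subgroup.centralizer ({a} : Set G) := by
          have hle : Subgroup.zpowers (c : G) ≤ Subgroup.centralizer ({a} : Set G) := by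
            rw [Subgroup.zpowers_le]
            rw [Subgroup.mem_centralizer_iff]
            intro h hh
            rw [Set.mem_singleton_iff] at hh
            subst hh
            exact hcA h ha
          exact hle hk
        rw [Subgroup.mem_centralizer_iff] at hk'
        rw [hk' a rfl]
        simp
      rw [this]
      exact hk
  obtain ⟨Q₀, hQ₀, hSQ₀⟩ := exists_le_maxInvSubgroups hS
  have hcQ₀ : (c : G) ∈ Q₀ := hSQ₀ (Subgroup.mem_zpowers _)
  -- every maximal invariant `q`-subgroup is conjugate to `Q₀`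
  have key : ∀ Q ∈ maxInvSubgroups ⊤ A {q}, ∃ k ∈ K, Q₀ = Q.map (MulAut.conj k).toMonoidHom := by
    intro Q hQ
    have hQp : IsPGroup q Q := isPGroup_of_isPi_singleton hQ.1.2.1
    have hQ1 : Q ≠ ⊥ := by
      intro h
      have := hQ.2 _ hS (h ▸ bot_le)
      rw [h] at this
      have hc' : (c : G) ∈ (⊥ : Subgroup G) := this ▸ Subgroup.mem_zpowers _
      exact hc1 (Subgroup.mem_bot.mp hc')
    set V := Q ⊓ Subgroup.centralizer (Q : Set G) with hV
    have hV1 : V ≠ ⊥ := inf_centralizer_ne_bot hQp hQ1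
    have hVc : IsMulCommutative V := isMulCommutative_inf_centralizer Q
    have hVp : IsPGroup q V := hQp.to_le inf_le_left
    have hcop : (Nat.card V).Coprime p := by
      obtain ⟨n, hn⟩ := IsPGroup.iff_card.mp hVp
      rw [hn]
      exact Nat.Coprime.pow_left n ((Nat.coprime_primes hq hp).mpr (Ne.symm hpq))
    have hBV : B ≤ Subgroup.normalizer (V : Set G) :=
      (hBA.trans hQ.1.2.2).trans (normalizer_le_normalizer_inf_centralizer Q)
    obtain ⟨b, hbB, hb1, v, hv, hv1, hbv⟩ :=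
      exists_commuting_of_card_gt hBc hBp hBcard hVc hV1 hcop hBV
    -- `H = C_G(b)`
    have hH : Subgroup.centralizer ({b} : Set G) ≠ ⊤ := minSimple_centralizer_singleton_ne_top hG hb1
    have hAH : A ≤ Subgroup.centralizer ({b} : Set G) := by
      intro a ha
      rw [Subgroup.mem_centralizer_iff]
      intro h hh
      rw [Set.mem_singleton_iff] at hh
      subst hh
      exact (Subgroup.mem_centralizer_iff.mp (hBCA hbB) a ha).symm
    have hH₁ : Subgroup.centralizer ({b} : Set G) ⊓ Q ≠ ⊥ := by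
      intro h
      have hvm : v ∈ Subgroup.centralizer ({b} : Set G) ⊓ Q := by
        refine Subgroup.mem_inf.mpr ⟨?_, (Subgroup.mem_inf.mp hv).1⟩
        rw [Subgroup.mem_centralizer_iff]
        intro h hh
        rw [Set.mem_singleton_iff] at hh
        subst hh
        exact hbv
      rw [h, Subgroup.mem_bot] at hvm
      exact hv1 hvm
    have hH₂ : Subgroup.centralizer ({b} : Set G) ⊓ Q₀ ≠ ⊥ := by
      intro h
      have hcm : (c : G) ∈ Subgroup.centralizer ({b} : Set G) ⊓ Q₀ := by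
        refine Subgroup.mem_inf.mpr ⟨?_, hcQ₀⟩
        rw [Subgroup.mem_centralizer_iff]
        intro b' hh
        rw [Set.mem_singleton_iff] at hh
        subst hh
        exact hcA b' (hBA hbB)
      rw [h, Subgroup.mem_bot] at hcm
      exact hc1 hcm
    exact conj_of_meet_proper hG hA hq hqA Q Q₀ hQ hQ₀ _ hH hAH hH₁ hH₂
  intro Q₁ hQ₁ Q₂ hQ₂
  obtain ⟨k₁, hk₁, hk₁Q⟩ := key Q₁ hQ₁
  obtain ⟨k₂, hk₂, hk₂Q⟩ := key Q₂ hQ₂
  refine ⟨k₂⁻¹ * k₁, K.mul_mem (K.inv_mem hk₂) hk₁, ?_⟩
  rw [← map_conj_map_conj, ← hk₁Q, hk₂Q, map_conj_map_conj, inv_mul_cancel, map_conj_one]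



end Cfsg.Agent.H37.T2c
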