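import Mathlib
import Cfsg.Agent.H58.UqDefs
import Cfsg.Agent.H12.SpConjG

/-!
# UQ-KEYB (piece of S2950)

Two `J(T)`-components inside `N_G(W_K)`, `K ∈ 𝒦₀(T)`: the second normalizes the `W` of the first.
-/

set_option autoImplicit false
open Cfsg

namespace Cfsg.Agent.H37.Uq

open Cfsg.Agent.H58.Uq
open scoped commutatorElement

universe u

/-- UQ-KEYB (helper58's S2950 project). -/
theorem keyB (hS : StS.{u}) (hN : StNSet.{u}) : StKeyB.{u} := by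
  intro G _ _ hZN T hT hT1 K hK K₁ K₂ hK₁ hg hK₁N hK₂ hK₂N
  obtain ⟨S, hS2, hS1, hJS, hNS⟩ := hN hZN.1 T K hT hK
  obtain ⟨hc1, hc2⟩ := k0_congr T S hJS
  have hK₁S : IsJComponent S K₁ := (hc2 K₁).mpr hK₁
  have hg' : ∃ g : G, K₁ ∈ jComponentsZero (S.map (MulAut.conj g).toMonoidHom) := by
    obtain ⟨g, hg⟩ := hg
    refine ⟨g, ?_⟩
    have hJ : thompsonSubgroupOf 2 (S.map (MulAut.conj g).toMonoidHom) =
        thompsonSubgroupOf 2 (T.map (MulAut.conj g).toMonoidHom) := by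
      rw [(Cfsg.Agent.H12.Sp.conjG S K g).1, (Cfsg.Agent.H12.Sp.conjG T K g).1, hJS]
    rw [(k0_congr _ _ hJ).1]
    exact hg
  have key := hS hZN S hS2 hS1 _ hNS K₁ hK₁S hK₁N hg'
  rw [hJS] at key
  rw [← hK₂.2.1, Subgroup.commutator_le]
  intro k hk j hj
  have h1 : k * j * k⁻¹ ∈ Subgroup.normalizer (wOf K₁ : Set G) :=
    key k (hK₂N hk) ⟨j, hj, rfl⟩
  have h2 : j ∈ Subgroup.normalizer (wOf K₁ : Set G) :=
    key 1 (one_mem _) ⟨j, hj, by simp⟩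
  have h3 : ⁅k, j⁆ = (k * j * k⁻¹) * j⁻¹ := by rw [commutatorElement_def]
  rw [h3]
  exact mul_mem h1 (inv_mem h2)

end Cfsg.Agent.H37.Uq

universe u in
example (hS : Cfsg.Agent.H58.Uq.StS.{u}) (hN : Cfsg.Agent.H58.Uq.StNSet.{u}) :
    Cfsg.Agent.H58.Uq.StKeyB.{u} := Cfsg.Agent.H37.Uq.keyB hS hN

#print axioms Cfsg.Agent.H37.Uq.keyB
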